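import Groth.Agent.LocHom.Factor

/-! Properties of morphisms along localizing immersions. -/

universe u

open CategoryTheory AlgebraicGeometry Topology TopologicalSpace Limits

namespace Groth.Agent.LocHom

open _root_.LocImm

theorem isOpen_of_isClosed_generalizing {α : Type*} [TopologicalSpace α] [NoetherianSpace α]
    [QuasiSober α] {C : Set α} (hc : IsClosed C) (hg : StableUnderGeneralization C) : IsOpen C := by
  obtain ⟨S, hSf, hScl, hSirr, hS⟩ :=
    NoetherianSpace.exists_finite_set_isClosed_irreducible (isClosed_univ (X := α))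
  have hCc : Cᶜ = ⋃₀ {t ∈ S | ¬ (t ∩ C).Nonempty} := by
    ext y
    refine ⟨fun hy => ?_, fun ⟨t, ht, hyt⟩ hyC => ht.2 ⟨y, hyt, hyC⟩⟩
    obtain ⟨t, ht, hyt⟩ := Set.mem_sUnion.mp (hS ▸ Set.mem_univ y)
    refine ⟨t, ⟨ht, fun ⟨z, hzt, hzC⟩ => hy ?_⟩, hyt⟩
    have hgp := (hSirr t ht).isGenericPoint_genericPoint (hScl t ht)
    have hη : (hSirr t ht).genericPoint ∈ C := hg (hgp.specializes hzt) hzC
    exact hc.closure_subset_iff.mpr (Set.singleton_subset_iff.mpr hη) (hgp.def.symm ▸ hyt)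
  rw [← isClosed_compl_iff, hCc, Set.sUnion_eq_biUnion]
  exact (hSf.subset fun t ht => ht.1).isClosed_biUnion fun t ht => hScl t ht.1

theorem locallyEssFiniteType_of_lft {A B : Scheme.{u}} (g : A ⟶ B) [LocallyOfFiniteType g] :
    EssFT.LocallyEssFiniteType g :=
  exists_common_open.essFT_of_lft g

theorem locallyEssFiniteType_of_isLocalizing {A B : Scheme.{u}} {g : A ⟶ B} (h : IsLocalizing g) :
    EssFT.LocallyEssFiniteType g := by
  rw [EssFT.locallyEssFiniteType_iff]
  intro x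
  obtain ⟨U, V, hx, e, hl⟩ := h x
  refine ⟨U, V, hx, e, ?_⟩
  let := (g.appLE U V e).hom.toAlgebra
  obtain ⟨S, hS⟩ := hl
  exact Algebra.EssFiniteType.of_isLocalization _ S

theorem locallyEssFiniteType_comp {A B C : Scheme.{u}} (f : A ⟶ B) (g : B ⟶ C)
    [hf : EssFT.LocallyEssFiniteType f] [hg : EssFT.LocallyEssFiniteType g] :
    EssFT.LocallyEssFiniteType (f ≫ g) := by
  have := HasRingHomProperty.stableUnderComposition (P := @EssFT.LocallyEssFiniteType)
    (RingHom.locally_stableUnderComposition RingHom.EssFiniteType.respectsIso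
      RingHom.EssFiniteType.isStableUnderBaseChange.localizationPreserves
      RingHom.EssFiniteType.stableUnderComposition)
  exact this.comp_mem f g hf hg

theorem hasNhds_fromSpecStalk (X : Scheme.{u}) (x : X) : HasNhds (X.fromSpecStalk x) := by
  obtain ⟨_, ⟨U, (hU : IsAffineOpen U), rfl⟩, hxU, -⟩ :=
    X.isBasis_affineOpens.exists_subset_of_mem_open (Set.mem_univ x) isOpen_univ
  have hloc : IsLocHom (X.presheaf.germ U x hxU).hom :=
    ⟨(hU.primeIdealOf ⟨x, hxU⟩).asIdeal.primeCompl, hU.isLocalization_stalk ⟨x, hxU⟩⟩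
  rw [← hU.fromSpecStalk_eq_fromSpecStalk hxU]
  exact (hasNhds_Spec hloc).comp (hasNhds_openImmersion hU.fromSpec)

theorem isNoetherian_Spec_stalk (X : Scheme.{u}) [IsLocallyNoetherian X] (x : X) :
    IsNoetherian (Spec (X.presheaf.stalk x)) := by
  have : IsNoetherianRing (X.presheaf.stalk x) := inferInstance
  exact {}

theorem essFiniteType_stalk {Z Y : Scheme.{u}} [IsNoetherian Y] (h : Z ⟶ Y)
    [EssFT.LocallyEssFiniteType h] (z : Z) :
    EssFT.EssFiniteType (Z.fromSpecStalk z ≫ h) := by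
  have := locallyEssFiniteType_of_isLocalizing (hasNhds_fromSpecStalk Z z).isLocImmersion.1
  have := locallyEssFiniteType_comp (Z.fromSpecStalk z) h
  have : QuasiCompact (Z.fromSpecStalk z ≫ h) := quasiCompact_of_compactSpace _
  exact {}

section Locus

variable (P : MorphismProperty Scheme.{u})
    (hα : ∀ {W X Y : Scheme.{u}} [IsNoetherian W] [IsNoetherian X] [IsNoetherian Y] (i : W ⟶ X)
      (f : X ⟶ Y) [IsSeparated f] [EssFT.EssFiniteType f], IsLocImmersion i → P f → P (i ≫ f))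
    (hβ₁ : ∀ {X Y : Scheme.{u}} [IsNoetherian X] [IsNoetherian Y] (f : X ⟶ Y) [IsSeparated f]
      [LocallyOfFiniteType f], (∀ x : X, P (X.fromSpecStalk x ≫ f)) → P f)
    (hβ₂ : ∀ {X Y : Scheme.{u}} [IsNoetherian X] [IsNoetherian Y] (f : X ⟶ Y) [IsSeparated f]
      [LocallyOfFiniteType f], IsOpen {x : X | P (X.fromSpecStalk x ≫ f)})

include hα in
theorem stalk_iff {X Z Y : Scheme.{u}} [IsNoetherian X] [IsNoetherian Z] [IsNoetherian Y]
    {i : X ⟶ Z} (hi : IsLocalizing i) (h : Z ⟶ Y) [IsSeparated h] [EssFT.LocallyEssFiniteType h]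
    (x : X) : P (X.fromSpecStalk x ≫ i ≫ h) ↔ P (Z.fromSpecStalk (i x) ≫ h) := by
  have := isIso_stalkMap hi x
  have := isNoetherian_Spec_stalk X x
  have := isNoetherian_Spec_stalk Z (i x)
  have e : X.fromSpecStalk x ≫ i ≫ h = Spec.map (i.stalkMap x) ≫ Z.fromSpecStalk (i x) ≫ h := by
    rw [Scheme.SpecMap_stalkMap_fromSpecStalk_assoc]
  have := locallyEssFiniteType_of_isLocalizing hi
  have := locallyEssFiniteType_comp i h
  have := essFiniteType_stalk h (i x)
  have := essFiniteType_stalk (i ≫ h) x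
  refine ⟨fun hp => ?_, fun hp => e ▸ hα _ _ (hasNhds_openImmersion _).isLocImmersion hp⟩
  have : IsSeparated (X.fromSpecStalk x ≫ i ≫ h) := by rw [e]; infer_instance
  have := hα (Spec.map (inv (i.stalkMap x))) _ (hasNhds_openImmersion _).isLocImmersion hp
  rwa [e, ← Spec.map_comp_assoc, IsIso.hom_inv_id, Spec.map_id, Category.id_comp] at this

include hα hβ₁ hβ₂ in
theorem locus_open_and_factors {X Y : Scheme.{u}} [IsNoetherian X] [IsNoetherian Y] (f : X ⟶ Y)
    [IsSeparated f] [EssFT.EssFiniteType f] :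
    ((∀ x : X, P (X.fromSpecStalk x ≫ f)) → P f) ∧ IsOpen {x : X | P (X.fromSpecStalk x ≫ f)} ∧
      (P f → ∃ (Z : Scheme.{u}) (i : X ⟶ Z) (h : Z ⟶ Y), IsNoetherian Z ∧ IsLocImmersion i ∧
        IsSeparated h ∧ LocallyOfFiniteType h ∧ QuasiCompact h ∧ P h ∧ i ≫ h = f) := by
  obtain ⟨Z, i, h, hZ, hi, hs, hl, hq, rfl⟩ := exists_factor f
  have := locallyEssFiniteType_of_lft h
  let Z' : Z.Opens := ⟨{z | P (Z.fromSpecStalk z ≫ h)}, hβ₂ h⟩
  have := isNoetherian_opens Z'
  have hqc : QuasiCompact (Z'.ι ≫ h) := quasiCompact_of_compactSpace _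
  have := locallyEssFiniteType_of_lft (Z'.ι ≫ h)
  have : EssFT.EssFiniteType (Z'.ι ≫ h) := {}
  have hZ' : P (Z'.ι ≫ h) := hβ₁ _ fun z =>
    (stalk_iff P hα (hasNhds_openImmersion Z'.ι).isLocImmersion.1 h z).mpr z.2
  have main : (∀ x : X, P (X.fromSpecStalk x ≫ i ≫ h)) →
      ∃ k : X ⟶ Z', IsLocImmersion k ∧ k ≫ Z'.ι = i := by
    intro hall
    have hr : Set.range i ⊆ Set.range Z'.ι := by
      rw [Scheme.Opens.range_ι]
      rintro _ ⟨x, rfl⟩
      exact (stalk_iff P hα hi.1 h x).mp (hall x)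
    refine ⟨IsOpenImmersion.lift Z'.ι i hr, ?_, IsOpenImmersion.lift_fac _ _ _⟩
    exact (HasNhds.of_comp_mono (g := Z'.ι)
      ((IsOpenImmersion.lift_fac Z'.ι i hr).symm ▸ hasNhds hi)).isLocImmersion
  refine ⟨fun hall => ?_, ?_, fun hP => ?_⟩
  · obtain ⟨k, hk, e⟩ := main hall
    rw [← e, Category.assoc]
    exact hα k _ hk hZ'
  · have : {x : X | P (X.fromSpecStalk x ≫ i ≫ h)} = i ⁻¹' {z | P (Z.fromSpecStalk z ≫ h)} :=
      Set.ext fun x => stalk_iff P hα hi.1 h x
    rw [this]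
    exact (hβ₂ h).preimage i.continuous
  · obtain ⟨k, hk, e⟩ := main fun x =>
      have := isNoetherian_Spec_stalk X x
      hα _ _ (hasNhds_fromSpecStalk X x).isLocImmersion hP
    exact ⟨Z', k, Z'.ι ≫ h, inferInstance, hk, inferInstance, inferInstance, hqc, hZ',
      by rw [← e, Category.assoc]⟩

end Locus

end Groth.Agent.LocHom
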