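import Groth.Agent.LocHom.GlueLem

/-! Gluing two factorisations through localizing immersions. -/

set_option backward.isDefEq.respectTransparency false
set_option backward.defeqAttrib.useBackward true

universe u

open CategoryTheory AlgebraicGeometry Topology TopologicalSpace Limits

namespace Groth.Agent.LocHom

open _root_.LocImm

theorem isPreimmersion_of_comp {A B C : Scheme.{u}} (k : A ⟶ B) (g : B ⟶ C)
    [IsPreimmersion (k ≫ g)] : IsPreimmersion k where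
  stalkMap_surjective x := by
    have h := (k ≫ g).stalkMap_surjective x
    rw [Scheme.Hom.stalkMap_comp] at h
    exact Function.Surjective.of_comp h
  isEmbedding := Topology.IsEmbedding.of_comp k.continuous g.continuous (k ≫ g).isEmbedding

theorem isNoetherian_of_lft {A B : Scheme.{u}} (g : A ⟶ B) [LocallyOfFiniteType g] [QuasiCompact g]
    [IsNoetherian B] : IsNoetherian A :=
  have : IsLocallyNoetherian A := LocallyOfFiniteType.isLocallyNoetherian g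
  have : CompactSpace A := QuasiCompact.compactSpace_of_compactSpace g
  {}

theorem isNoetherian_of_openImmersion {A B : Scheme.{u}} (g : A ⟶ B) [IsOpenImmersion g]
    [IsNoetherian B] : IsNoetherian A := by
  have : IsLocallyNoetherian A := isLocallyNoetherian_of_isOpenImmersion g
  have : CompactSpace A := ⟨g.isEmbedding.isCompact_iff.mpr (NoetherianSpace.isCompact _)⟩
  exact {}

/-- Two schemes glued along an open are separated over the base when the diagonal image of the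
overlap is closed. -/
theorem isSeparated_glued {S W A B : Scheme.{u}} (h₁ : W ⟶ A) (h₂ : W ⟶ B) [IsOpenImmersion h₁]
    [IsOpenImmersion h₂] (pa : A ⟶ S) (pb : B ⟶ S) [IsSeparated pa] [IsSeparated pb]
    (w : h₁ ≫ pa = h₂ ≫ pb) (hcl : IsClosed (Set.range (pullback.lift h₁ h₂ w))) :
    IsSeparated (pushout.desc pa pb w) := by
  set p := pushout.desc pa pb w
  suffices hD : IsClosed (Set.range (pullback.diagonal p)) from
    ⟨IsClosedImmersion.of_isPreimmersion _ hD⟩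
  have hwa : pushout.inl h₁ h₂ ≫ p = pa := pushout.inl_desc _ _ _
  have hwb : pushout.inr h₁ h₂ ≫ p = pb := pushout.inr_desc _ _ _
  have hdiag : ∀ {A' : Scheme.{u}} (pa' : A' ⟶ S) [IsSeparated pa'],
      IsClosed (Set.range (pullback.lift (𝟙 A') (𝟙 A') (rfl : 𝟙 A' ≫ pa' = 𝟙 A' ≫ pa'))) :=
    fun pa' _ => (pullback.diagonal pa').isClosedEmbedding.isClosed_range
  have hswap : IsClosed (Set.range (pullback.lift h₂ h₁ w.symm)) := by
    have e : pullback.lift h₂ h₁ w.symm = pullback.lift h₁ h₂ w ≫ (pullbackSymmetry pa pb).hom := by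
      apply pullback.hom_ext <;> simp
    rw [e, Scheme.Hom.comp_base, TopCat.coe_comp, Set.range_comp]
    exact (pullbackSymmetry pa pb).hom.homeomorph.isClosedMap _ hcl
  have key : ∀ (a : Set (pullback p p : Scheme.{u})) {A' B' : Scheme.{u}}
      (m : A' ⟶ pullback p p) [IsOpenImmersion m], IsClosed (m ⁻¹' a) →
      ∀ z ∈ Set.range m, z ∉ a → aᶜ ∈ 𝓝 z := by
    rintro a A' B' m _ hc z ⟨t, rfl⟩ ht
    refine Filter.mem_of_superset (((m.isOpenEmbedding.isOpenMap _ hc.isOpen_compl)).mem_nhds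
      ⟨t, ht, rfl⟩) ?_
    rintro _ ⟨t', ht', rfl⟩
    exact ht'
  refine isOpen_compl_iff.mp (isOpen_iff_mem_nhds.mpr fun z hz => ?_)
  have hcov : ∀ y : (pushout h₁ h₂ : Scheme.{u}),
      y ∈ Set.range (pushout.inl h₁ h₂) ∨ y ∈ Set.range (pushout.inr h₁ h₂) := fun y => by
    have := (LimLib.pushout_opensRange_sup h₁ h₂).ge (Set.mem_univ y)
    exact Opens.mem_sup.mp this
  have hself : ∀ {A' : Scheme.{u}} (a : A' ⟶ pushout h₁ h₂) [IsOpenImmersion a],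
      Set.range a ∩ Set.range a ⊆ Set.range (𝟙 A' ≫ a) := fun a _ => by simp
  rcases hcov (pullback.fst p p z) with hf | hf <;> rcases hcov (pullback.snd p p z) with hs | hs
  · refine key _ (B' := A) (pullback.map pa pa p p (pushout.inl h₁ h₂) (pushout.inl h₁ h₂) (𝟙 S)
      (by simp [hwa]) (by simp [hwa])) ?_ z (by rw [Scheme.Pullback.range_map]; exact ⟨hf, hs⟩) hz
    rw [preimage_diagonal_eq p _ _ pa pa hwa hwa (𝟙 A) (𝟙 A) rfl (hself _)]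
    exact hdiag pa
  · refine key _ (B' := A) (pullback.map pa pb p p (pushout.inl h₁ h₂) (pushout.inr h₁ h₂) (𝟙 S)
      (by simp [hwa]) (by simp [hwb])) ?_ z (by rw [Scheme.Pullback.range_map]; exact ⟨hf, hs⟩) hz
    rw [preimage_diagonal_eq p _ _ pa pb hwa hwb h₁ h₂ pushout.condition
      (LimLib.pushout_range_inter h₁ h₂).le]
    exact hcl
  · refine key _ (B' := A) (pullback.map pb pa p p (pushout.inr h₁ h₂) (pushout.inl h₁ h₂) (𝟙 S)
      (by simp [hwb]) (by simp [hwa])) ?_ z (by rw [Scheme.Pullback.range_map]; exact ⟨hf, hs⟩) hz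
    rw [preimage_diagonal_eq p _ _ pb pa hwb hwa h₂ h₁ pushout.condition.symm
      (by rw [Set.inter_comm, ← pushout.condition]; exact (LimLib.pushout_range_inter h₁ h₂).le)]
    exact hswap
  · refine key _ (B' := A) (pullback.map pb pb p p (pushout.inr h₁ h₂) (pushout.inr h₁ h₂) (𝟙 S)
      (by simp [hwb]) (by simp [hwb])) ?_ z (by rw [Scheme.Pullback.range_map]; exact ⟨hf, hs⟩) hz
    rw [preimage_diagonal_eq p _ _ pb pb hwb hwb (𝟙 B) (𝟙 B) rfl (hself _)]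
    exact hdiag pb

variable {X S : Scheme.{u}}

theorem exists_glued_factor [IsNoetherian X] [IsNoetherian S] (f : X ⟶ S) [IsSeparated f]
    (U₁ U₂ : X.Opens) (hU : U₁ ⊔ U₂ = ⊤) (Y₁ Y₂ : Scheme.{u}) [IsNoetherian Y₁] [IsNoetherian Y₂]
    (k₁ : (U₁ : Scheme.{u}) ⟶ Y₁) (k₂ : (U₂ : Scheme.{u}) ⟶ Y₂) (p₁ : Y₁ ⟶ S) (p₂ : Y₂ ⟶ S)
    (hk₁ : IsLocImmersion k₁) (hk₂ : IsLocImmersion k₂)
    [IsSeparated p₁] [IsSeparated p₂] [LocallyOfFiniteType p₁] [LocallyOfFiniteType p₂]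
    (e₁ : k₁ ≫ p₁ = U₁.ι ≫ f) (e₂ : k₂ ≫ p₂ = U₂.ι ≫ f) :
    ∃ (Y : Scheme.{u}) (k : X ⟶ Y) (p : Y ⟶ S), IsNoetherian Y ∧ IsLocImmersion k ∧ IsSeparated p ∧
      LocallyOfFiniteType p ∧ QuasiCompact p ∧ k ≫ p = f := by
  have : IsNoetherian (U₁ : Scheme.{u}) := isNoetherian_opens U₁
  have : IsNoetherian (U₂ : Scheme.{u}) := isNoetherian_opens U₂
  have : IsNoetherian (U₁ ⊓ U₂ : X.Opens).toScheme := isNoetherian_opens _
  let i₁ := X.homOfLE (inf_le_left : U₁ ⊓ U₂ ≤ U₁)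
  let i₂ := X.homOfLE (inf_le_right : U₁ ⊓ U₂ ≤ U₂)
  have H : IsPullback i₁ i₂ U₁.ι U₂.ι := isPullback_opens_inf U₁ U₂
  have hn₁ : HasNhds (i₁ ≫ k₁) := (hasNhds_openImmersion i₁).comp (hasNhds hk₁)
  have hn₂ : HasNhds (i₂ ≫ k₂) := (hasNhds_openImmersion i₂).comp (hasNhds hk₂)
  obtain ⟨W₀, k₀, g₁, g₂, hk₀, hg₁, hg₂, hgp, hkg₁, hkg₂⟩ := exists_common_open (i₁ ≫ k₁) (i₂ ≫ k₂)
    p₁ p₂ hn₁.isLocImmersion hn₂.isLocImmersion
    (by rw [Category.assoc, e₁, Category.assoc, e₂, ← Category.assoc, H.w, Category.assoc])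
  have : IsNoetherian W₀ := isNoetherian_of_openImmersion g₁
  have : IsNoetherian (pullback p₁ p₂ : Scheme.{u}) := by
    have : QuasiCompact p₂ := inferInstance
    exact isNoetherian_of_lft (pullback.fst p₁ p₂)
  obtain ⟨W₁, hW₁, hW₁'⟩ := exists_open_generic k₀ (stableUnderGeneralization_range hk₀.1)
  let j₀ : W₀ ⟶ pullback p₁ p₂ := pullback.lift g₁ g₂ hgp
  let c := k₀ ≫ j₀
  have hc₁ : c ≫ pullback.fst p₁ p₂ = i₁ ≫ k₁ := by simp [c, j₀, hkg₁]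
  have hc₂ : c ≫ pullback.snd p₁ p₂ = i₂ ≫ k₂ := by simp [c, j₀, hkg₂]
  have : IsPreimmersion (c ≫ pullback.fst p₁ p₂) := hc₁ ▸ isPreimmersion hn₁.isLocImmersion
  have : IsPreimmersion c := isPreimmersion_of_comp c (pullback.fst p₁ p₂)
  have := isPreimmersion hk₁
  have := isPreimmersion hk₂
  let j := W₁.ι ≫ j₀
  have : IsImmersion (j ≫ pullback.fst p₁ p₂) := by
    have : j ≫ pullback.fst p₁ p₂ = W₁.ι ≫ g₁ := by simp [j, j₀]
    rw [this]; infer_instance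
  have : IsImmersion j := IsImmersion.of_comp j (pullback.fst p₁ p₂)
  have hcj : Set.range c ⊆ Set.range j := by
    rintro _ ⟨x, rfl⟩
    exact ⟨⟨k₀ x, hW₁ ⟨x, rfl⟩⟩, rfl⟩
  have hjc : Set.range j ⊆ closure (Set.range c) := by
    rintro _ ⟨w, rfl⟩
    obtain ⟨η, hη⟩ := hW₁' _ w.2
    exact closure_mono (Set.singleton_subset_iff.mpr (Set.mem_range_self η) : {c η} ⊆ Set.range c)
      (specializes_iff_mem_closure.mp (hη.map j₀.continuous))
  let Bd := closure (Set.range j) \ Set.range j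
  have hB : IsClosed Bd := by
    have h := j.isLocallyClosed_range.isOpen_coborder
    rw [coborder, isOpen_compl_iff] at h
    exact h
  have hkey : ∀ (η : (U₁ ⊓ U₂ : X.Opens).toScheme) (b : (pullback p₁ p₂ : Scheme.{u}))
      (u₁ : (U₁ : Scheme.{u})) (u₂ : (U₂ : Scheme.{u})), c η ⤳ b →
      pullback.fst p₁ p₂ b = k₁ u₁ → pullback.snd p₁ p₂ b = k₂ u₂ →
      ∃ u, c u = b ∧ i₁ u = u₁ ∧ i₂ u = u₂ := fun η b u₁ u₂ hb h₁ h₂ =>
    key_lemma f U₁.ι U₂.ι k₁ k₂ p₁ p₂ i₁ i₂ hk₁.1 hk₂.1 H e₁ e₂ c hc₁ hc₂ hb h₁ h₂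
  obtain ⟨(O₁ : Y₁.Opens), (O₂ : Y₂.Opens), hO₁, hO₂, havoid⟩ := exists_opens_avoid (pullback.fst p₁ p₂) (pullback.snd p₁ p₂)
    (pullback.fst p₁ p₂).continuous (pullback.snd p₁ p₂).continuous
    (stableUnderGeneralization_range hk₁.1) (stableUnderGeneralization_range hk₂.1) hB
    (fun b hb ⟨u₁, h₁⟩ ⟨u₂, h₂⟩ => by
      obtain ⟨η, hη⟩ := exists_specializes_of_mem_closure_range c c.continuous
        (closure_minimal hjc isClosed_closure hb.1)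
      obtain ⟨u, hu, -, -⟩ := hkey η b u₁ u₂ hη h₁.symm h₂.symm
      exact hb.2 (hcj ⟨u, hu⟩))
  let W₂ : W₀.Opens := W₁ ⊓ g₁ ⁻¹ᵁ O₁ ⊓ g₂ ⁻¹ᵁ O₂
  have hr : ∀ {Y : Scheme.{u}} (g : W₀ ⟶ Y) (O : Y.Opens), W₂ ≤ g ⁻¹ᵁ O →
      Set.range (W₂.ι ≫ g) ⊆ Set.range O.ι := by
    intro Y g O hle
    rw [Scheme.Opens.range_ι]
    rintro _ ⟨w, rfl⟩
    exact hle w.2
  let h₁ := IsOpenImmersion.lift O₁.ι (W₂.ι ≫ g₁) (hr g₁ O₁ (inf_le_left.trans inf_le_right))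
  let h₂ := IsOpenImmersion.lift O₂.ι (W₂.ι ≫ g₂) (hr g₂ O₂ inf_le_right)
  have hh₁ : h₁ ≫ O₁.ι = W₂.ι ≫ g₁ := IsOpenImmersion.lift_fac _ _ _
  have hh₂ : h₂ ≫ O₂.ι = W₂.ι ≫ g₂ := IsOpenImmersion.lift_fac _ _ _
  have : IsOpenImmersion (h₁ ≫ O₁.ι) := hh₁ ▸ inferInstance
  have : IsOpenImmersion (h₂ ≫ O₂.ι) := hh₂ ▸ inferInstance
  have : IsOpenImmersion h₁ := IsOpenImmersion.of_comp h₁ O₁.ι
  have : IsOpenImmersion h₂ := IsOpenImmersion.of_comp h₂ O₂.ι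
  have w : h₁ ≫ O₁.ι ≫ p₁ = h₂ ≫ O₂.ι ≫ p₂ := by
    rw [reassoc_of% hh₁, reassoc_of% hh₂, hgp]
  let p := pushout.desc (O₁.ι ≫ p₁) (O₂.ι ≫ p₂) w
  have : IsNoetherian (O₁ : Scheme.{u}) := isNoetherian_opens O₁
  have : IsNoetherian (O₂ : Scheme.{u}) := isNoetherian_opens O₂
  have : CompactSpace (pushout h₁ h₂ : Scheme.{u}) := LimLib.compactSpace_pushout h₁ h₂
  have hlft : LocallyOfFiniteType p := by
    let 𝒰 := (pushout h₁ h₂).openCoverOfIsOpenCover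
      (fun i : Bool => if i then (pushout.inl h₁ h₂).opensRange else (pushout.inr h₁ h₂).opensRange)
      (by
        refine top_le_iff.mp ?_
        rw [← LimLib.pushout_opensRange_sup h₁ h₂]
        exact sup_le (le_iSup_of_le true (by simp)) (le_iSup_of_le false (by simp)))
    rw [IsZariskiLocalAtSource.iff_of_openCover (P := @LocallyOfFiniteType) 𝒰]
    intro i
    cases i
    · show LocallyOfFiniteType ((pushout.inr h₁ h₂).opensRange.ι ≫ p)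
      rw [← Scheme.Hom.isoOpensRange_inv_comp, Category.assoc, pushout.inr_desc]
      infer_instance
    · show LocallyOfFiniteType ((pushout.inl h₁ h₂).opensRange.ι ≫ p)
      rw [← Scheme.Hom.isoOpensRange_inv_comp, Category.assoc, pushout.inl_desc]
      infer_instance
  have hrange : Set.range (pullback.lift h₁ h₂ w) =
      (pullback.map (O₁.ι ≫ p₁) (O₂.ι ≫ p₂) p₁ p₂ O₁.ι O₂.ι (𝟙 S) (by simp) (by simp)) ⁻¹'
        closure (Set.range j) := by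
    set m := pullback.map (O₁.ι ≫ p₁) (O₂.ι ≫ p₂) p₁ p₂ O₁.ι O₂.ι (𝟙 S) (by simp) (by simp)
    have hm : pullback.lift h₁ h₂ w ≫ m = W₂.ι ≫ j₀ := by
      apply pullback.hom_ext <;> simp [m, j₀, hh₁, hh₂]
    refine Set.Subset.antisymm ?_ fun z hz => ?_
    · rintro _ ⟨v, rfl⟩
      refine subset_closure ⟨⟨W₂.ι v, v.2.1.1⟩, ?_⟩
      show j₀ (W₂.ι v) = _
      rw [← Scheme.Hom.comp_apply, ← hm, Scheme.Hom.comp_apply]
    · have h1 : pullback.fst p₁ p₂ (m z) ∈ O₁ := by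
        rw [← Scheme.Hom.comp_apply, show m ≫ pullback.fst p₁ p₂ = pullback.fst _ _ ≫ O₁.ι from
          pullback.lift_fst _ _ _, Scheme.Hom.comp_apply]
        exact (pullback.fst (O₁.ι ≫ p₁) (O₂.ι ≫ p₂) z).2
      have h2 : pullback.snd p₁ p₂ (m z) ∈ O₂ := by
        rw [← Scheme.Hom.comp_apply, show m ≫ pullback.snd p₁ p₂ = pullback.snd _ _ ≫ O₂.ι from
          pullback.lift_snd _ _ _, Scheme.Hom.comp_apply]
        exact (pullback.snd (O₁.ι ≫ p₁) (O₂.ι ≫ p₂) z).2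
      obtain ⟨v, hv⟩ : m z ∈ Set.range j := by
        by_contra hn; exact havoid _ ⟨hz, hn⟩ h1 h2
      have hv' : j₀ (W₁.ι v) = m z := hv
      have hvg₁ : g₁ (W₁.ι v) ∈ O₁ := by
        rw [show g₁ = j₀ ≫ pullback.fst p₁ p₂ from (pullback.lift_fst _ _ _).symm,
          Scheme.Hom.comp_apply, hv']
        exact h1
      have hvg₂ : g₂ (W₁.ι v) ∈ O₂ := by
        rw [show g₂ = j₀ ≫ pullback.snd p₁ p₂ from (pullback.lift_snd _ _ _).symm,
          Scheme.Hom.comp_apply, hv']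
        exact h2
      refine ⟨⟨W₁.ι v, ⟨v.2, hvg₁⟩, hvg₂⟩, m.isOpenEmbedding.injective ?_⟩
      rw [← Scheme.Hom.comp_apply, hm, ← hv']
      rfl
  have hsep : IsSeparated p := isSeparated_glued h₁ h₂ _ _ w (by
    rw [hrange]
    exact isClosed_closure.preimage (Scheme.Hom.continuous (pullback.map (O₁.ι ≫ p₁) (O₂.ι ≫ p₂)
      p₁ p₂ O₁.ι O₂.ι (𝟙 S) (by simp) (by simp))))
  have hlift₁ : Set.range k₁ ⊆ Set.range O₁.ι := by rw [Scheme.Opens.range_ι]; exact hO₁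
  have hlift₂ : Set.range k₂ ⊆ Set.range O₂.ι := by rw [Scheme.Opens.range_ι]; exact hO₂
  let l₁ := IsOpenImmersion.lift O₁.ι k₁ hlift₁
  let l₂ := IsOpenImmersion.lift O₂.ι k₂ hlift₂
  have hl₁ : l₁ ≫ O₁.ι = k₁ := IsOpenImmersion.lift_fac _ _ _
  have hl₂ : l₂ ≫ O₂.ι = k₂ := IsOpenImmersion.lift_fac _ _ _
  have hr₀ : Set.range k₀ ⊆ Set.range W₂.ι := by
    rw [Scheme.Opens.range_ι]
    rintro _ ⟨x, rfl⟩
    refine ⟨⟨hW₁ ⟨x, rfl⟩, ?_⟩, ?_⟩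
    · show g₁ (k₀ x) ∈ O₁
      rw [← Scheme.Hom.comp_apply, hkg₁]; exact hO₁ ⟨i₁ x, rfl⟩
    · show g₂ (k₀ x) ∈ O₂
      rw [← Scheme.Hom.comp_apply, hkg₂]; exact hO₂ ⟨i₂ x, rfl⟩
  let l₀ := IsOpenImmersion.lift W₂.ι k₀ hr₀
  have hl₀ : l₀ ≫ W₂.ι = k₀ := IsOpenImmersion.lift_fac _ _ _
  have hl₀₁ : l₀ ≫ h₁ = i₁ ≫ l₁ := by
    rw [← cancel_mono O₁.ι, Category.assoc, hh₁, reassoc_of% hl₀, hkg₁, Category.assoc, hl₁]
  have hl₀₂ : l₀ ≫ h₂ = i₂ ≫ l₂ := by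
    rw [← cancel_mono O₂.ι, Category.assoc, hh₂, reassoc_of% hl₀, hkg₂, Category.assoc, hl₂]
  obtain ⟨g, hg₁', hg₂'⟩ := LimLib.exists_glue_sup U₁ U₂ (l₁ ≫ pushout.inl h₁ h₂)
    (l₂ ≫ pushout.inr h₁ h₂) (by
      show i₁ ≫ l₁ ≫ _ = i₂ ≫ l₂ ≫ _
      rw [← reassoc_of% hl₀₁, ← reassoc_of% hl₀₂, pushout.condition])
  let k : X ⟶ pushout h₁ h₂ := X.topIso.inv ≫ X.homOfLE hU.ge ≫ g
  have hk₁' : U₁.ι ≫ k = l₁ ≫ pushout.inl h₁ h₂ := by
    rw [← hg₁']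
    have : U₁.ι ≫ X.topIso.inv ≫ X.homOfLE hU.ge = X.homOfLE le_sup_left := by
      rw [← cancel_mono (U₁ ⊔ U₂).ι]; simp
    simp only [k, reassoc_of% this]
  have hk₂' : U₂.ι ≫ k = l₂ ≫ pushout.inr h₁ h₂ := by
    rw [← hg₂']
    have : U₂.ι ≫ X.topIso.inv ≫ X.homOfLE hU.ge = X.homOfLE le_sup_right := by
      rw [← cancel_mono (U₁ ⊔ U₂).ι]; simp
    simp only [k, reassoc_of% this]
  have hcov : ∀ x : X, x ∈ U₁ ∨ x ∈ U₂ := fun x => Opens.mem_sup.mp (hU ▸ Set.mem_univ x)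
  have hloc₁ : HasNhds (U₁.ι ≫ k) := hk₁' ▸
    (HasNhds.of_comp_mono (g := O₁.ι) (hl₁.symm ▸ hasNhds hk₁)).comp (hasNhds_openImmersion _)
  have hloc₂ : HasNhds (U₂.ι ≫ k) := hk₂' ▸
    (HasNhds.of_comp_mono (g := O₂.ι) (hl₂.symm ▸ hasNhds hk₂)).comp (hasNhds_openImmersion _)
  have hinj : ∀ x y (hx : x ∈ U₁) (hy : y ∈ U₂), k x = k y → x = y := by
    intro x y hx hy e
    have ex : k x = pushout.inl h₁ h₂ (l₁ ⟨x, hx⟩) := by
      rw [← Scheme.Hom.comp_apply, ← hk₁']; rfl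
    have ey : k y = pushout.inr h₁ h₂ (l₂ ⟨y, hy⟩) := by
      rw [← Scheme.Hom.comp_apply, ← hk₂']; rfl
    obtain ⟨v, hv⟩ := (LimLib.pushout_range_inter h₁ h₂).le
      (⟨⟨_, ex.symm⟩, ⟨_, (e.trans ey).symm⟩⟩ :
        k x ∈ Set.range (pushout.inl h₁ h₂) ∩ Set.range (pushout.inr h₁ h₂))
    have hv₁ : h₁ v = l₁ ⟨x, hx⟩ := (pushout.inl h₁ h₂).isOpenEmbedding.injective
      (by rw [← Scheme.Hom.comp_apply, hv, ex])
    have hv₂ : h₂ v = l₂ ⟨y, hy⟩ := (pushout.inr h₁ h₂).isOpenEmbedding.injective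
      (by rw [← Scheme.Hom.comp_apply, ← pushout.condition, hv, e, ey])
    obtain ⟨η, hη⟩ := hW₁' (W₂.ι v) v.2.1.1
    have f₁ : pullback.fst p₁ p₂ (j₀ (W₂.ι v)) = k₁ ⟨x, hx⟩ := by
      have : W₂.ι ≫ j₀ ≫ pullback.fst p₁ p₂ = h₁ ≫ O₁.ι := by simp [j₀, hh₁]
      rw [← Scheme.Hom.comp_apply, ← Scheme.Hom.comp_apply, this, Scheme.Hom.comp_apply, hv₁,
        ← Scheme.Hom.comp_apply, hl₁]
    have f₂ : pullback.snd p₁ p₂ (j₀ (W₂.ι v)) = k₂ ⟨y, hy⟩ := by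
      have : W₂.ι ≫ j₀ ≫ pullback.snd p₁ p₂ = h₂ ≫ O₂.ι := by simp [j₀, hh₂]
      rw [← Scheme.Hom.comp_apply, ← Scheme.Hom.comp_apply, this, Scheme.Hom.comp_apply, hv₂,
        ← Scheme.Hom.comp_apply, hl₂]
    obtain ⟨u, -, hu₁, hu₂⟩ := hkey η (j₀ (W₂.ι v)) ⟨x, hx⟩ ⟨y, hy⟩ (hη.map j₀.continuous) f₁ f₂
    calc x = U₁.ι (i₁ u) := by rw [hu₁]; rfl
      _ = U₂.ι (i₂ u) := by rw [← Scheme.Hom.comp_apply, H.w, Scheme.Hom.comp_apply]
      _ = y := by rw [hu₂]; rfl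
  have : LocallyOfFiniteType p := hlft
  have : IsLocallyNoetherian (pushout h₁ h₂ : Scheme.{u}) := LocallyOfFiniteType.isLocallyNoetherian p
  refine ⟨pushout h₁ h₂, k, p, {}, ⟨?_, ?_⟩, hsep, hlft, inferInstance, ?_⟩
  · refine isLocalizing_of_local fun x => ?_
    rcases hcov x with hx | hx
    exacts [⟨U₁, hx, hloc₁.isLocImmersion.1⟩, ⟨U₂, hx, hloc₂.isLocImmersion.1⟩]
  · intro x y e
    rcases hcov x with hx | hx <;> rcases hcov y with hy | hy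
    · exact congrArg Subtype.val (hloc₁.isLocImmersion.2 (a₁ := ⟨x, hx⟩) (a₂ := ⟨y, hy⟩) e)
    · exact hinj x y hx hy e
    · exact (hinj y x hy hx e.symm).symm
    · exact congrArg Subtype.val (hloc₂.isLocImmersion.2 (a₁ := ⟨x, hx⟩) (a₂ := ⟨y, hy⟩) e)
  · refine Scheme.Cover.hom_ext (X.openCoverOfIsOpenCover (fun i : Bool => if i then U₁ else U₂)
      (by
        refine top_le_iff.mp ?_
        rw [← hU]
        exact sup_le (le_iSup_of_le true (by simp)) (le_iSup_of_le false (by simp)))) _ _ fun i => ?_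
    cases i
    · show U₂.ι ≫ k ≫ p = U₂.ι ≫ f
      rw [reassoc_of% hk₂', pushout.inr_desc, reassoc_of% hl₂, e₂]
    · show U₁.ι ≫ k ≫ p = U₁.ι ≫ f
      rw [reassoc_of% hk₁', pushout.inl_desc, reassoc_of% hl₁, e₁]

end Groth.Agent.LocHom
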