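import Groth.Prelude.Def_W4c5cptfessfintypeLocImm
import Mathlib

/-! Localizing ring maps, localizing morphisms and localizing immersions. -/

universe u

open CategoryTheory AlgebraicGeometry Topology TopologicalSpace

namespace Groth.Agent.LocHom

open _root_.LocImm

/-! ### rings -/

section Ring

variable {A B : Type u} [CommRing A] [CommRing B]

theorem flat_of_isLocHom {φ : A →+* B} (h : IsLocHom φ) : φ.Flat := by
  let := φ.toAlgebra
  obtain ⟨S, hS⟩ := h
  exact IsLocalization.flat B S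

theorem isPreimmersion_of_isLocHom {A B : CommRingCat.{u}} {φ : A ⟶ B} (h : IsLocHom φ.hom) :
    IsPreimmersion (Spec.map φ) := by
  let := φ.hom.toAlgebra
  obtain ⟨S, hS⟩ := h
  exact IsPreimmersion.of_isLocalization (S := B) S

theorem isLocHom_of_pushout {A B A' B' : CommRingCat.{u}} {φ : A ⟶ B} {g : A ⟶ A'}
    {g' : B ⟶ B'} {φ' : A' ⟶ B'} (h : IsPushout φ g g' φ') (hφ : IsLocHom φ.hom) :
    IsLocHom φ'.hom := by
  algebraize [φ.hom, g.hom, g'.hom, φ'.hom, g'.hom.comp φ.hom]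
  have : IsScalarTower A A' B' := IsScalarTower.of_algebraMap_eq fun x =>
    congrArg (fun k : A ⟶ B' => k.hom x) h.w
  obtain ⟨S, hS⟩ := hφ
  have hP : Algebra.IsPushout A B A' B' :=
    CommRingCat.isPushout_iff_isPushout.mp h
  exact ⟨Algebra.algebraMapSubmonoid A' S,
    (Algebra.isLocalization_iff_isPushout (R := A) (A := B) S (T := A') (B := B')).mpr hP.symm⟩

theorem isLocHom_comp_iso {A B B' : CommRingCat.{u}} {φ : A ⟶ B} (e : B ≅ B')
    (h : IsLocHom φ.hom) : IsLocHom (φ ≫ e.hom).hom :=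
  isLocHom_of_pushout (IsPushout.of_vert_isIso ⟨by simp⟩ : IsPushout φ (𝟙 A) e.hom (φ ≫ e.hom)) h

theorem isLocHom_awayMap {φ : A →+* B} (h : IsLocHom φ) (a : A) (A' B' : Type u) [CommRing A']
    [CommRing B'] [Algebra A A'] [Algebra B B'] [IsLocalization.Away a A']
    [IsLocalization.Away (φ a) B'] : IsLocHom (IsLocalization.Away.map A' B' φ a) := by
  set ψ := IsLocalization.Away.map A' B' φ a
  algebraize [φ, ψ, (algebraMap B B').comp φ]
  have : IsScalarTower A A' B' := IsScalarTower.of_algebraMap_eq fun x =>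
    show algebraMap B B' (φ x) = ψ (algebraMap A A' x) by
      simp [ψ, IsLocalization.Away.map, IsLocalization.map_eq]
  obtain ⟨S, hS⟩ := h
  have : IsLocalization (Algebra.algebraMapSubmonoid B (Submonoid.powers a)) B' := by
    rw [show Algebra.algebraMapSubmonoid B (Submonoid.powers a) = Submonoid.powers (φ a) from
      Submonoid.map_powers _ a]
    infer_instance
  have hP : Algebra.IsPushout A B A' B' :=
    Algebra.isPushout_of_isLocalization (Submonoid.powers a) A' B B'
  exact ⟨Algebra.algebraMapSubmonoid A' S,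
    (Algebra.isLocalization_iff_isPushout (R := A) (A := B) S (T := A') (B := B')).mpr hP.symm⟩

end Ring

/-! ### localizing morphisms -/

section Scheme

variable {X Y : Scheme.{u}} {f : X ⟶ Y}

theorem fromSpec_comp_isPreimmersion {U : Y.Opens} {V : X.Opens} (hU : IsAffineOpen U)
    (hV : IsAffineOpen V) (e : V ≤ f ⁻¹ᵁ U) (h : IsLocHom (f.appLE U V e).hom) :
    IsPreimmersion (hV.fromSpec ≫ f) ∧ Flat (hV.fromSpec ≫ f) := by
  rw [← IsAffineOpen.SpecMap_appLE_fromSpec f hU hV e]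
  have := isPreimmersion_of_isLocHom h
  have : Flat (Spec.map (f.appLE U V e)) := Flat.SpecMap_iff.mpr (flat_of_isLocHom h)
  exact ⟨inferInstance, inferInstance⟩

theorem flat (hf : IsLocalizing f) : Flat f := by
  refine Flat.of_stalkMap f fun x => ?_
  obtain ⟨⟨U, hU : IsAffineOpen U⟩, ⟨V, hV : IsAffineOpen V⟩, hx, e, h⟩ := hf x
  obtain ⟨-, hfl⟩ := fromSpec_comp_isPreimmersion hU hV e h
  obtain ⟨y, hy⟩ : ∃ y, hV.fromSpec y = x := by
    rw [← Set.mem_range, hV.range_fromSpec]; exact hx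
  subst hy
  have := Flat.stalkMap (hV.fromSpec ≫ f) y
  rw [Scheme.Hom.stalkMap_comp] at this
  exact (RingHom.Flat.respectsIso.cancel_right_isIso (f.stalkMap _) (hV.fromSpec.stalkMap y)).mp this

theorem surjectiveOnStalks (hf : IsLocalizing f) : SurjectiveOnStalks f := by
  refine ⟨fun x => ?_⟩
  obtain ⟨⟨U, hU : IsAffineOpen U⟩, ⟨V, hV : IsAffineOpen V⟩, hx, e, h⟩ := hf x
  obtain ⟨hp, -⟩ := fromSpec_comp_isPreimmersion hU hV e h
  obtain ⟨y, hy⟩ : ∃ y, hV.fromSpec y = x := by
    rw [← Set.mem_range, hV.range_fromSpec]; exact hx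
  subst hy
  have := (hV.fromSpec ≫ f).stalkMap_surjective y
  rw [Scheme.Hom.stalkMap_comp] at this
  have h' : Function.Surjective (hV.fromSpec.stalkMap y ∘ f.stalkMap (hV.fromSpec y)) := this
  exact Function.Surjective.of_comp_left h' (ConcreteCategory.bijective_of_isIso (hV.fromSpec.stalkMap y)).1

theorem isIso_stalkMap (hf : IsLocalizing f) (x : X) : IsIso (f.stalkMap x) := by
  have := flat hf
  have := surjectiveOnStalks hf
  rw [ConcreteCategory.isIso_iff_bijective]
  refine ⟨?_, f.stalkMap_surjective x⟩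
  algebraize [(f.stalkMap x).hom]
  have : Module.FaithfullyFlat (Y.presheaf.stalk (f x)) (X.presheaf.stalk x) :=
    @Module.FaithfullyFlat.of_flat_of_isLocalHom _ _ _ _ _ _ _
      (Flat.stalkMap f x) (f.toLRSHom.prop x)
  exact RingHom.FaithfullyFlat.injective ‹_›

/-- An injective generalizing map out of a Noetherian sober space is inducing. -/
theorem isInducing_of_generalizing {α β : Type*} [TopologicalSpace α] [TopologicalSpace β]
    [NoetherianSpace α] [QuasiSober α] (g : α → β) (hc : Continuous g) (hinj : Function.Injective g)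
    (hg : GeneralizingMap g) : IsInducing g := by
  refine isInducing_iff_nhds.mpr fun x => le_antisymm (hc.tendsto x).le_comap ?_
  intro s hs
  obtain ⟨O, hOs, hO, hxO⟩ := mem_nhds_iff.mp hs
  obtain ⟨S, hSf, hScl, hSirr, hS⟩ :=
    NoetherianSpace.exists_finite_set_isClosed_irreducible hO.isClosed_compl
  refine Filter.mem_comap.mpr ⟨(⋃ t ∈ S, closure (g '' t))ᶜ,
    (hSf.isClosed_biUnion fun t _ => isClosed_closure).isOpen_compl.mem_nhds ?_, ?_⟩
  · simp only [Set.mem_compl_iff, Set.mem_iUnion₂, not_exists]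
    intro t ht hx
    have hgen := (hSirr t ht).isGenericPoint_genericPoint (hScl t ht)
    set η := (hSirr t ht).genericPoint
    have h1 : g x ∈ closure {g η} := by
      refine closure_minimal ?_ isClosed_closure hx
      rw [← hgen.def]
      exact (image_closure_subset_closure_image hc).trans (by rw [Set.image_singleton])
    obtain ⟨η', hη', e⟩ := hg (specializes_iff_mem_closure.mpr h1)
    rw [hinj e] at hη'
    exact (hS ▸ Set.mem_sUnion_of_mem ((hgen.specializes_iff_mem).mp hη') ht : x ∈ Oᶜ) hxO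
  · intro y hy
    refine hOs (Classical.not_not.mp fun hyO => ?_)
    obtain ⟨t, ht, hyt⟩ := Set.mem_sUnion.mp (hS ▸ hyO : y ∈ ⋃₀ S)
    exact hy (Set.mem_iUnion₂.mpr ⟨t, ht, subset_closure ⟨y, hyt, rfl⟩⟩)

theorem isEmbedding [IsNoetherian X] (hf : IsLocImmersion f) : IsEmbedding f := by
  have := flat hf.1
  exact ⟨isInducing_of_generalizing f f.continuous hf.2 (Flat.generalizingMap f), hf.2⟩

theorem isPreimmersion [IsNoetherian X] (hf : IsLocImmersion f) : IsPreimmersion f :=
  have := surjectiveOnStalks hf.1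
  ⟨isEmbedding hf⟩

theorem stableUnderGeneralization_range (hf : IsLocalizing f) :
    StableUnderGeneralization (Set.range f) :=
  have := flat hf
  (Flat.generalizingMap f).stableUnderGeneralization_range

/-- If the preimage of a basic open lies in `V`, restricting to it gives a localizing map between
affine opens. -/
theorem isLocHom_app_basicOpen {U : Y.Opens} {V : X.Opens} (hU : IsAffineOpen U)
    (hV : IsAffineOpen V) (e : V ≤ f ⁻¹ᵁ U) (h : IsLocHom (f.appLE U V e).hom) (a : Γ(Y, U))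
    (ha : f ⁻¹ᵁ Y.basicOpen a ≤ V) :
    IsAffineOpen (f ⁻¹ᵁ Y.basicOpen a) ∧ IsLocHom (f.app (Y.basicOpen a)).hom := by
  have hD : f ⁻¹ᵁ Y.basicOpen a = X.basicOpen (f.appLE U V e a) := by
    rw [Scheme.Hom.appLE, CommRingCat.comp_apply, Scheme.basicOpen_res, ← Scheme.preimage_basicOpen]
    exact (inf_eq_right.mpr ha).symm
  refine ⟨hD ▸ hV.basicOpen _, ?_⟩
  let := hU.isLocalization_basicOpen a
  let := hV.isLocalization_basicOpen (f.appLE U V e a)
  have h1 : IsLocHom (f.appLE (Y.basicOpen a) (X.basicOpen (f.appLE U V e a)) hD.ge).hom := by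
    rw [IsAffineOpen.appLE_eq_away_map f hU hV e a]
    exact isLocHom_awayMap h a _ _
  have h2 := isLocHom_comp_iso (X.presheaf.mapIso (eqToIso hD).op) h1
  rwa [Functor.mapIso_hom, Scheme.Hom.appLE_map, Scheme.Hom.appLE_eq_app] at h2

theorem exists_affine_nhd [IsNoetherian X] (hf : IsLocImmersion f) (x : X) :
    ∃ W : Y.Opens, f x ∈ W ∧ IsAffineOpen W ∧ IsAffineOpen (f ⁻¹ᵁ W) ∧
      IsLocHom (f.app W).hom := by
  obtain ⟨U, V, hx, e, h⟩ := hf.1 x
  obtain ⟨O, hO, hOV⟩ := (isEmbedding hf).isInducing.isOpen_iff.mp V.1.2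
  have hxO : f x ∈ O := (Set.ext_iff.mp hOV x).mpr hx
  obtain ⟨a, haO, hax⟩ := U.2.exists_basicOpen_le (V := ⟨O, hO⟩) ⟨f x, hxO⟩ (e hx)
  have hle : f ⁻¹ᵁ Y.basicOpen a ≤ V.1 := fun z hz => (Set.ext_iff.mp hOV z).mp (haO hz)
  obtain ⟨h1, h2⟩ := isLocHom_app_basicOpen U.2 V.2 e h a hle
  exact ⟨_, hax, U.2.basicOpen a, h1, h2⟩

theorem of_affine_nhds
    (H : ∀ x : X, ∃ W : Y.Opens, f x ∈ W ∧ IsAffineOpen W ∧ IsAffineOpen (f ⁻¹ᵁ W) ∧
      IsLocHom (f.app W).hom) : IsLocImmersion f := by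
  refine ⟨fun x => ?_, fun x y e => ?_⟩
  · obtain ⟨W, hx, hW, hW', h⟩ := H x
    exact ⟨⟨W, hW⟩, ⟨_, hW'⟩, hx, le_rfl, by rwa [← Scheme.Hom.app_eq_appLE]⟩
  · obtain ⟨W, hx, hW, hW', h⟩ := H x
    rw [Scheme.Hom.app_eq_appLE] at h
    obtain ⟨hp, -⟩ := fromSpec_comp_isPreimmersion hW hW' le_rfl h
    have hy : f y ∈ W := by rw [← e]; exact hx
    obtain ⟨a, rfl⟩ : x ∈ Set.range hW'.fromSpec := by rw [hW'.range_fromSpec]; exact hx
    obtain ⟨c, rfl⟩ : y ∈ Set.range hW'.fromSpec := by rw [hW'.range_fromSpec]; exact hy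
    exact congrArg _ ((hW'.fromSpec ≫ f).isEmbedding.injective (by simpa using e))

theorem isOpenImmersion_of_isOpen_range [IsNoetherian X] (hf : IsLocImmersion f)
    (h : IsOpen (Set.range f)) : IsOpenImmersion f :=
  have : ∀ x, IsIso (f.stalkMap x) := isIso_stalkMap hf.1
  IsOpenImmersion.of_isIso_stalkMap f ⟨isEmbedding hf, h⟩

end Scheme

end Groth.Agent.LocHom
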