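import Groth.Agent.LocHom.Comp

/-! Factorisations of localizing immersions through schematically dominant maps. -/

universe u

open CategoryTheory AlgebraicGeometry Topology TopologicalSpace Limits

namespace Groth.Agent.LocHom

open _root_.LocImm

theorem isLocHom_of_injective_comp {A B C : Type u} [CommRing A] [CommRing B] [CommRing C]
    {ψ : C →+* A} {φ : A →+* B} (h : IsLocHom (φ.comp ψ)) (hi : Function.Injective φ) :
    IsLocHom φ := by
  algebraize [ψ, φ, φ.comp ψ]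
  obtain ⟨S, hS⟩ := h
  refine ⟨S.map ψ, ⟨?_⟩⟩
  constructor
  · rintro ⟨_, s, hs, rfl⟩
    exact IsLocalization.map_units B (⟨s, hs⟩ : S)
  · intro b
    obtain ⟨⟨c, s⟩, hcs⟩ := IsLocalization.surj S b
    exact ⟨(ψ c, ⟨ψ s, s, s.2, rfl⟩), hcs⟩
  · intro x y hxy
    exact ⟨1, by rw [hi hxy]⟩

variable {X Y Z : Scheme.{u}} {f : X ⟶ Y} {g : Y ⟶ Z}

theorem HasNhds.of_dense [IsSeparated g] (h : HasNhds (f ≫ g))
    (hd : ∀ U : Y.Opens, Function.Injective (f.app U)) : HasNhds f := by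
  intro x
  obtain ⟨W, hxW, hW, hP, hl⟩ := h x
  have : IsAffine W := hW
  have : IsAffine ((f ≫ g) ⁻¹ᵁ W) := hP
  obtain ⟨_, ⟨U, hU, rfl⟩, hxU, hUle⟩ :=
    Y.isBasis_affineOpens.exists_subset_of_mem_open (show f x ∈ (g ⁻¹ᵁ W : Set Y) from hxW)
      (g ⁻¹ᵁ W).2
  have hUle' : U ≤ g ⁻¹ᵁ W := hUle
  obtain ⟨b, hb, hxb⟩ := hP.exists_basicOpen_le (V := f ⁻¹ᵁ U) ⟨x, hxU⟩ hxW
  let := ((f ≫ g).app W).hom.toAlgebra
  obtain ⟨S, hS⟩ := hl
  obtain ⟨⟨c, s⟩, hcs : b * algebraMap _ _ (s : Γ(Z, W)) = algebraMap _ _ c⟩ :=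
    IsLocalization.surj S b
  have hbc : (f ≫ g) ⁻¹ᵁ Z.basicOpen c = X.basicOpen b := by
    rw [Scheme.preimage_basicOpen]
    show X.basicOpen (algebraMap Γ(Z, W) Γ(X, (f ≫ g) ⁻¹ᵁ W) c) = _
    rw [← hcs, Scheme.basicOpen_mul, Scheme.basicOpen_of_isUnit _ (IsLocalization.map_units _ s)]
    exact inf_eq_left.mpr (X.basicOpen_le b)
  obtain ⟨hQ, hloc⟩ := isLocHom_app_basicOpen hW hP le_rfl
    (by rw [← Scheme.Hom.app_eq_appLE]; exact ⟨S, hS⟩) c
    ((f ≫ g).preimage_mono (Z.basicOpen_le c))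
  set a : Γ(Y, U) := g.appLE W U hUle' c
  have ha : Y.basicOpen a = U ⊓ g ⁻¹ᵁ Z.basicOpen c := by
    show Y.basicOpen (g.appLE W U hUle' c) = _
    rw [Scheme.Hom.appLE, CommRingCat.comp_apply, Scheme.basicOpen_res, Scheme.preimage_basicOpen]
  have hpre : f ⁻¹ᵁ Y.basicOpen a = (f ≫ g) ⁻¹ᵁ Z.basicOpen c := by
    rw [ha, f.preimage_inf, ← Scheme.Hom.comp_preimage]
    exact inf_eq_right.mpr (hbc.trans_le hb)
  refine ⟨Y.basicOpen a, ?_, hU.basicOpen a, hpre ▸ hQ, ?_⟩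
  · show x ∈ f ⁻¹ᵁ Y.basicOpen a
    rw [hpre, hbc]; exact hxb
  have e : Y.basicOpen a ≤ g ⁻¹ᵁ Z.basicOpen c := ha.trans_le inf_le_right
  refine isLocHom_of_injective_comp (ψ := (g.appLE (Z.basicOpen c) (Y.basicOpen a) e).hom) ?_ (hd _)
  rw [← CommRingCat.hom_comp]
  have key := isLocHom_comp_iso (X.presheaf.mapIso (eqToIso hpre).op) hloc
  rw [Functor.mapIso_hom] at key
  convert key using 1
  rw [Scheme.Hom.app_eq_appLE, Scheme.Hom.appLE_comp_appLE, Scheme.Hom.app_eq_appLE,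
    Scheme.Hom.appLE_map]

theorem toImage_app_injective' (f : X ⟶ Y) [QuasiCompact f] (U : f.image.Opens) :
    Function.Injective (f.toImage.app U) := by
  intro s t hst
  refine TopCat.Presheaf.section_ext ⟨f.image.presheaf, f.image.IsSheaf⟩ U s t fun y hy => ?_
  apply f.stalkFunctor_toImage_injective y
  have := congrArg (((TopCat.Presheaf.pushforward CommRingCat f.toImage.base).obj X.presheaf).germ
    U y hy) hst
  erw [TopCat.Presheaf.stalkFunctor_map_germ_apply, TopCat.Presheaf.stalkFunctor_map_germ_apply]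
  exact this

end Groth.Agent.LocHom
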