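import Groth.Agent.LocHom.Spread
import Groth.Agent.LocHom.Dense

/-! A common open neighbourhood for two localizing immersions over a base. -/

universe u

open CategoryTheory AlgebraicGeometry Topology TopologicalSpace Limits

namespace Groth.Agent.LocHom

open _root_.LocImm

theorem isNoetherian_opens {A : Scheme.{u}} [IsNoetherian A] (U : A.Opens) :
    IsNoetherian (U : Scheme.{u}) :=
  have : IsLocallyNoetherian (U : Scheme.{u}) := isLocallyNoetherian_of_isOpenImmersion U.ι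
  have : CompactSpace (U : Scheme.{u}) := isCompact_iff_compactSpace.mp (NoetherianSpace.isCompact _)
  {}

theorem exists_common_open {X Y₁ Y₂ S : Scheme.{u}} [IsNoetherian X] [IsNoetherian Y₁]
    [IsNoetherian Y₂] [IsNoetherian S] (f₁ : X ⟶ Y₁) (f₂ : X ⟶ Y₂) (π₁ : Y₁ ⟶ S) (π₂ : Y₂ ⟶ S)
    (hf₁ : IsLocImmersion f₁) (hf₂ : IsLocImmersion f₂) [IsSeparated π₁] [IsSeparated π₂]
    [LocallyOfFiniteType π₁] [LocallyOfFiniteType π₂] (h : f₁ ≫ π₁ = f₂ ≫ π₂) :
    ∃ (W : Scheme.{u}) (k : X ⟶ W) (g₁ : W ⟶ Y₁) (g₂ : W ⟶ Y₂), IsLocImmersion k ∧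
      IsOpenImmersion g₁ ∧ IsOpenImmersion g₂ ∧ g₁ ≫ π₁ = g₂ ≫ π₂ ∧ k ≫ g₁ = f₁ ∧ k ≫ g₂ = f₂ := by
  let P := pullback π₁ π₂
  let k₀ : X ⟶ P := pullback.lift f₁ f₂ h
  have : IsNoetherian P := by
    have : IsLocallyNoetherian P := LocallyOfFiniteType.isLocallyNoetherian (pullback.fst π₁ π₂)
    have : QuasiCompact π₂ := inferInstance
    have : CompactSpace P := QuasiCompact.compactSpace_of_compactSpace (pullback.fst π₁ π₂)
    exact {}
  have : IsNoetherian k₀.image := by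
    have : IsLocallyNoetherian k₀.image := LocallyOfFiniteType.isLocallyNoetherian k₀.imageι
    have : CompactSpace k₀.image := QuasiCompact.compactSpace_of_compactSpace k₀.imageι
    exact {}
  let g₁ := k₀.imageι ≫ pullback.fst π₁ π₂
  let g₂ := k₀.imageι ≫ pullback.snd π₁ π₂
  have e₁ : k₀.toImage ≫ g₁ = f₁ := by
    rw [Scheme.Hom.toImage_imageι_assoc]; exact pullback.lift_fst _ _ _
  have e₂ : k₀.toImage ≫ g₂ = f₂ := by
    rw [Scheme.Hom.toImage_imageι_assoc]; exact pullback.lift_snd _ _ _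
  have hk : IsLocImmersion k₀.toImage :=
    ((hasNhds (e₁.symm ▸ hf₁ : IsLocImmersion (k₀.toImage ≫ g₁))).of_dense
      (toImage_app_injective' k₀)).isLocImmersion
  have : EssFT.LocallyEssFiniteType g₁ := essFT_of_lft g₁
  have : EssFT.LocallyEssFiniteType g₂ := essFT_of_lft g₂
  obtain ⟨U₁, hU₁, hl₁⟩ := exists_nhd_isLocImmersion k₀.toImage g₁ hk (e₁.symm ▸ hf₁)
  obtain ⟨U₂, hU₂, hl₂⟩ := exists_nhd_isLocImmersion k₀.toImage g₂ hk (e₂.symm ▸ hf₂)
  let W : k₀.image.Opens := U₁ ⊓ U₂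
  have hr : Set.range k₀.toImage ⊆ Set.range W.ι := by
    rw [Scheme.Opens.range_ι]
    exact fun z hz => ⟨hU₁ hz, hU₂ hz⟩
  let k := IsOpenImmersion.lift W.ι k₀.toImage hr
  have hkW : k ≫ W.ι = k₀.toImage := IsOpenImmersion.lift_fac _ _ _
  refine ⟨W, k, W.ι ≫ g₁, W.ι ≫ g₂, ?_, ?_, ?_, ?_, ?_, ?_⟩
  · exact (HasNhds.of_comp_mono (g := W.ι) (hkW.symm ▸ hasNhds hk)).isLocImmersion
  · exact open_of_le g₁ hl₁ inf_le_left
  · exact open_of_le g₂ hl₂ inf_le_right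
  · simp [g₁, g₂, pullback.condition]
  · rw [reassoc_of% hkW, e₁]
  · rw [reassoc_of% hkW, e₂]
where
  essFT_of_lft {A B : Scheme.{u}} (g : A ⟶ B) [LocallyOfFiniteType g] :
      EssFT.LocallyEssFiniteType g := by
    rw [EssFT.locallyEssFiniteType_iff]
    intro x
    obtain ⟨_, ⟨U, hU, rfl⟩, hxU, -⟩ :=
      B.isBasis_affineOpens.exists_subset_of_mem_open (Set.mem_univ (g x)) isOpen_univ
    obtain ⟨_, ⟨V, hV, rfl⟩, hxV, hVU⟩ :=
      A.isBasis_affineOpens.exists_subset_of_mem_open (show x ∈ (g ⁻¹ᵁ U : Set A) from hxU)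
        (g ⁻¹ᵁ U).2
    refine ⟨⟨U, hU⟩, ⟨V, hV⟩, hxV, hVU, ?_⟩
    exact (LocallyOfFiniteType.finiteType_appLE g hU hV hVU).essFiniteType
  open_of_le {A B : Scheme.{u}} [IsNoetherian A] [IsNoetherian B] (g : A ⟶ B)
      [LocallyOfFiniteType g] {U W : A.Opens} (hl : IsLocImmersion (U.ι ≫ g)) (hle : W ≤ U) :
      IsOpenImmersion (W.ι ≫ g) := by
    rw [← Scheme.homOfLE_ι A hle, Category.assoc]
    have := isNoetherian_opens U
    have := isNoetherian_opens W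
    have h := (hasNhds_openImmersion (A.homOfLE hle)).comp (hasNhds hl)
    have := flat h.isLocImmersion.1
    have := isPreimmersion h.isLocImmersion
    exact IsOpenImmersion.of_flat_of_mono _

end Groth.Agent.LocHom
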