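import Groth.Agent.LocHom.Basic

/-! Operations on localizing immersions given by affine neighbourhoods. -/

universe u

open CategoryTheory AlgebraicGeometry Topology TopologicalSpace Limits

namespace Groth.Agent.LocHom

open _root_.LocImm

theorem isLocHom_comp {A B C : CommRingCat.{u}} {φ : A ⟶ B} {ψ : B ⟶ C} (hφ : IsLocHom φ.hom)
    (hψ : IsLocHom ψ.hom) : IsLocHom (φ ≫ ψ).hom := by
  algebraize [φ.hom, ψ.hom, (φ ≫ ψ).hom]
  have : IsScalarTower A B C := IsScalarTower.of_algebraMap_eq' rfl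
  obtain ⟨S, hS⟩ := hφ
  obtain ⟨T, hT⟩ := hψ
  exact ⟨_, IsLocalization.localization_localization_isLocalization S T C⟩

theorem isLocHom_of_isIso {A B : CommRingCat.{u}} (φ : A ⟶ B) [IsIso φ] : IsLocHom φ.hom := by
  let := φ.hom.toAlgebra
  exact ⟨IsUnit.submonoid A, IsLocalization.isLocalization_of_algEquiv _
    (AlgEquiv.ofBijective (Algebra.ofId A B) (ConcreteCategory.bijective_of_isIso φ))⟩

theorem isLocHom_iso_comp {A' A B : CommRingCat.{u}} {φ : A ⟶ B} (e : A' ≅ A)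
    (h : IsLocHom φ.hom) : IsLocHom (e.hom ≫ φ).hom :=
  isLocHom_comp (isLocHom_of_isIso e.hom) h

/-- Every point has an affine neighbourhood in the target with affine preimage and localizing
section map. -/
def HasNhds {X Y : Scheme.{u}} (f : X ⟶ Y) : Prop :=
  ∀ x : X, ∃ W : Y.Opens, f x ∈ W ∧ IsAffineOpen W ∧ IsAffineOpen (f ⁻¹ᵁ W) ∧
    IsLocHom (f.app W).hom

variable {X Y Z : Scheme.{u}} {f : X ⟶ Y} {g : Y ⟶ Z}

theorem HasNhds.isLocImmersion (h : HasNhds f) : IsLocImmersion f := of_affine_nhds h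

theorem hasNhds [IsNoetherian X] (h : IsLocImmersion f) : HasNhds f := exists_affine_nhd h

theorem hasNhds_openImmersion (j : X ⟶ Y) [IsOpenImmersion j] : HasNhds j := by
  intro x
  obtain ⟨_, ⟨V, hV, rfl⟩, hxV, -⟩ :=
    X.isBasis_affineOpens.exists_subset_of_mem_open (Set.mem_univ x) isOpen_univ
  have e : j ⁻¹ᵁ (j ''ᵁ V) = V := j.preimage_image_eq V
  refine ⟨j ''ᵁ V, ⟨x, hxV, rfl⟩, hV.image_of_isOpenImmersion j, by rwa [e], ?_⟩
  have : IsIso (j.app (j ''ᵁ V)) := by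
    have : IsIso (j.app (j ''ᵁ V) ≫ X.presheaf.map (eqToHom (j.preimage_image_eq V).symm).op) := by
      rw [← j.appIso_hom]; infer_instance
    exact IsIso.of_isIso_comp_right _ (X.presheaf.map (eqToHom (j.preimage_image_eq V).symm).op)
  exact isLocHom_of_isIso _

theorem hasNhds_Spec {A B : CommRingCat.{u}} {φ : A ⟶ B} (h : IsLocHom φ.hom) :
    HasNhds (Spec.map φ) := by
  refine fun x => ⟨⊤, trivial, isAffineOpen_top _, isAffineOpen_top (Spec B), ?_⟩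
  have e : (Spec.map φ).appTop = ((Scheme.ΓSpecIso A).hom ≫ φ) ≫ (Scheme.ΓSpecIso B).inv := by
    rw [Category.assoc, ← Iso.inv_comp_eq, Scheme.ΓSpecIso_inv_naturality]
  show IsLocHom (Spec.map φ).appTop.hom
  rw [e]
  exact isLocHom_comp_iso (Scheme.ΓSpecIso B).symm (isLocHom_iso_comp (Scheme.ΓSpecIso A) h)

theorem HasNhds.comp (hf : HasNhds f) (hg : HasNhds g) : HasNhds (f ≫ g) := by
  intro x
  obtain ⟨W₁, hx₁, hW₁, hW₁', h₁⟩ := hf x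
  obtain ⟨W, hxW, hW, hW', h⟩ := hg (f x)
  obtain ⟨b, b₁, hb, hxb⟩ := exists_basicOpen_le_affine_inter hW' hW₁ (f x) ⟨hxW, hx₁⟩
  let := (g.app W).hom.toAlgebra
  obtain ⟨S, hS⟩ := h
  obtain ⟨⟨c, s⟩, hcs : b * algebraMap _ _ (s : Γ(Z, W)) = algebraMap _ _ c⟩ :=
    IsLocalization.surj S b
  have hsu : IsUnit (algebraMap Γ(Z, W) Γ(Y, g ⁻¹ᵁ W) (s : Γ(Z, W))) :=
    IsLocalization.map_units _ s
  have hbc : g ⁻¹ᵁ Z.basicOpen c = Y.basicOpen b := by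
    rw [Scheme.preimage_basicOpen]
    show Y.basicOpen (algebraMap Γ(Z, W) Γ(Y, g ⁻¹ᵁ W) c) = _
    rw [← hcs, Scheme.basicOpen_mul, Scheme.basicOpen_of_isUnit _ hsu]
    exact inf_eq_left.mpr (Y.basicOpen_le b)
  have hle : Z.basicOpen c ≤ W := Z.basicOpen_le c
  have hg' : g ⁻¹ᵁ W ≤ g ⁻¹ᵁ W := le_rfl
  obtain ⟨-, hgc⟩ := isLocHom_app_basicOpen hW hW' hg'
    (by rw [← Scheme.Hom.app_eq_appLE]; exact ⟨S, hS⟩) c (g.preimage_mono hle)
  have hf1 : f ⁻¹ᵁ Y.basicOpen b₁ ≤ f ⁻¹ᵁ W₁ := f.preimage_mono (Y.basicOpen_le b₁)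
  obtain ⟨haff, hfb⟩ := isLocHom_app_basicOpen hW₁ hW₁' le_rfl
    (by rw [← Scheme.Hom.app_eq_appLE]; exact h₁) b₁ hf1
  have e : Y.basicOpen b₁ = g ⁻¹ᵁ Z.basicOpen c := by rw [← hb, hbc]
  refine ⟨Z.basicOpen c, ?_, hW.basicOpen c, ?_, ?_⟩
  · show f x ∈ g ⁻¹ᵁ Z.basicOpen c
    rw [hbc]; exact hxb
  · show IsAffineOpen (f ⁻¹ᵁ (g ⁻¹ᵁ Z.basicOpen c))
    rw [← e]; exact haff
  · rw [Scheme.Hom.comp_app]
    have key : ∀ O, O = Y.basicOpen b₁ → IsLocHom (f.app O).hom := fun O h => h ▸ hfb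
    exact isLocHom_comp hgc (key _ e.symm)

theorem HasNhds.pullback_snd {Y' : Scheme.{u}} (hf : HasNhds f) (g : Y' ⟶ Y) :
    HasNhds (pullback.snd f g) := by
  intro z
  obtain ⟨W, hxW, hW, hW', h⟩ := hf (pullback.fst f g z)
  have hz : g (pullback.snd f g z) ∈ W := by
    rw [← Scheme.Hom.comp_apply, ← pullback.condition, Scheme.Hom.comp_apply]
    exact hxW
  obtain ⟨_, ⟨W', hW'', rfl⟩, hzW', hle⟩ :=
    Y'.isBasis_affineOpens.exists_subset_of_mem_open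
      (show pullback.snd f g z ∈ (g ⁻¹ᵁ W : Set Y') from hz) (g ⁻¹ᵁ W).2
  have hle' : W' ≤ g ⁻¹ᵁ W := hle
  have hsub : pullback.snd f g ⁻¹ᵁ W' =
      pullback.fst f g ⁻¹ᵁ (f ⁻¹ᵁ W) ⊓ pullback.snd f g ⁻¹ᵁ W' := by
    refine (inf_eq_right.mpr fun w hw => ?_).symm
    show f (pullback.fst f g w) ∈ W
    rw [← Scheme.Hom.comp_apply, pullback.condition, Scheme.Hom.comp_apply]
    exact hle' hw
  have H := IsPullback.of_hasPullback f g
  have : IsAffine _ := hW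
  have : IsAffine _ := hW'
  have : IsAffine _ := hW''
  have hUY : IsAffineOpen (pullback.snd f g ⁻¹ᵁ W') :=
    .of_isIso (Scheme.Hom.isPullback_resLE H hle' (le_refl (f ⁻¹ᵁ W)) hsub).isoPullback.hom
  refine ⟨W', hzW', hW'', hUY, ?_⟩
  have hP := (isIso_pushoutSection_iff H hle' (le_refl (f ⁻¹ᵁ W)) hsub).mp
    (isIso_pushoutSection_of_isAffineOpen H hle' le_rfl hsub hW hW'' hW')
  rw [Scheme.Hom.app_eq_appLE] at h ⊢
  exact isLocHom_of_pushout hP h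

theorem HasNhds.of_isPullback {P Y' : Scheme.{u}} {fst : P ⟶ X} {snd : P ⟶ Y'} {g : Y' ⟶ Y}
    (H : IsPullback fst snd f g) (hf : HasNhds f) : HasNhds snd := by
  rw [← H.isoPullback_hom_snd]
  exact (hasNhds_openImmersion _).comp (hf.pullback_snd g)

theorem HasNhds.of_comp_mono {k : X ⟶ Y} [Mono g] (h : HasNhds (k ≫ g)) : HasNhds k :=
  h.of_isPullback (IsPullback.of_horiz_isIso_mono ⟨by simp⟩ : IsPullback (𝟙 X) k (k ≫ g) g)

theorem HasNhds.morphismRestrict (hf : HasNhds f) (U : Y.Opens) : HasNhds (f ∣_ U) :=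
  hf.of_isPullback (isPullback_morphismRestrict f U).flip

theorem isLocalizing_of_local (h : ∀ x : X, ∃ U : X.Opens, x ∈ U ∧ IsLocalizing (U.ι ≫ f)) :
    IsLocalizing f := by
  intro x
  obtain ⟨T, hxT, hT⟩ := h x
  obtain ⟨U, ⟨V, hV : IsAffineOpen V⟩, hxV, e, hl⟩ := hT ⟨x, hxT⟩
  refine ⟨U, ⟨T.ι ''ᵁ V, hV.image_of_isOpenImmersion T.ι⟩, ⟨⟨x, hxT⟩, hxV, rfl⟩, ?_, ?_⟩
  · rintro _ ⟨t, ht, rfl⟩
    exact e ht
  have e₁ : T.ι ''ᵁ V ≤ f ⁻¹ᵁ U.1 := by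
    rintro _ ⟨t, ht, rfl⟩; exact e ht
  have e₂ : V ≤ T.ι ⁻¹ᵁ (T.ι ''ᵁ V) := (T.ι.preimage_image_eq V).ge
  have hiso : IsIso (T.ι.appLE (T.ι ''ᵁ V) V e₂) := by
    rw [← T.ι.appIso_hom']; infer_instance
  have key := isLocHom_comp_iso (asIso (T.ι.appLE (T.ι ''ᵁ V) V e₂)).symm hl
  have hc : (T.ι ≫ f).appLE U.1 V e = f.appLE U.1 (T.ι ''ᵁ V) e₁ ≫ T.ι.appLE (T.ι ''ᵁ V) V e₂ :=
    (Scheme.Hom.appLE_comp_appLE T.ι f _ _ _ _ _).symm
  rw [hc, Iso.symm_hom, asIso_inv, Category.assoc, IsIso.hom_inv_id, Category.comp_id] at key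
  exact key

theorem isLocalizing_comp_openImmersion {W : Scheme.{u}} (j : W ⟶ X) [IsOpenImmersion j] (f : X ⟶ Y)
    (h : IsLocalizing f) : IsLocalizing (j ≫ f) := by
  intro p
  obtain ⟨U, ⟨V, hV : IsAffineOpen V⟩, hxV, e, hl⟩ := h (j p)
  obtain ⟨b, hb, hpb⟩ := hV.exists_basicOpen_le (V := j.opensRange ⊓ V) ⟨j p, ⟨⟨p, rfl⟩, hxV⟩⟩ hxV
  let := (f.appLE U.1 V e).hom.toAlgebra
  obtain ⟨S, hS⟩ := hl
  have e' : X.basicOpen b ≤ f ⁻¹ᵁ U.1 := (X.basicOpen_le b).trans e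
  have hloc : IsLocHom (f.appLE U.1 (X.basicOpen b) e').hom := by
    rw [← Scheme.Hom.appLE_map f e (homOfLE (X.basicOpen_le b)).op]
    refine isLocHom_comp ⟨S, hS⟩ ?_
    exact ⟨Submonoid.powers b, hV.isLocalization_basicOpen b⟩
  have hrange : X.basicOpen b ≤ j.opensRange := hb.trans inf_le_left
  have haff : IsAffineOpen (j ⁻¹ᵁ X.basicOpen b) :=
    (hV.basicOpen b).preimage_of_isOpenImmersion j hrange
  refine ⟨U, ⟨_, haff⟩, hpb, fun t ht => e' ht, ?_⟩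
  have hiso : IsIso (j.app (X.basicOpen b)) := j.isIso_app _ hrange
  have key := isLocHom_comp hloc (isLocHom_of_isIso (j.app (X.basicOpen b)))
  rw [Scheme.Hom.app_eq_appLE, Scheme.Hom.appLE_comp_appLE] at key
  exact key

end Groth.Agent.LocHom
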