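import Groth.Agent.LocHom.Glue

/-! Factorisation of separated essentially finite type morphisms through a localizing immersion. -/

universe u

open CategoryTheory AlgebraicGeometry Topology TopologicalSpace Limits

namespace Groth.Agent.LocHom

open _root_.LocImm

variable {X S : Scheme.{u}} (f : X ⟶ S)

/-- `f` restricted to `U` factors as a localizing immersion followed by separated finite type. -/
def Factors (U : X.Opens) : Prop :=
  ∃ (Y : Scheme.{u}) (k : (U : Scheme.{u}) ⟶ Y) (p : Y ⟶ S), IsNoetherian Y ∧ IsLocImmersion k ∧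
    IsSeparated p ∧ LocallyOfFiniteType p ∧ QuasiCompact p ∧ k ≫ p = U.ι ≫ f

theorem factors_bot [IsNoetherian S] : Factors f ⊥ :=
  ⟨S, (⊥ : X.Opens).ι ≫ f, 𝟙 S, inferInstance,
    ⟨fun x => absurd x.2 (Set.notMem_empty _), fun x => absurd x.2 (Set.notMem_empty _)⟩,
    inferInstance, inferInstance, inferInstance, Category.comp_id _⟩

theorem exists_affine_factors [IsNoetherian S] [EssFT.LocallyEssFiniteType f] (x : X) :
    ∃ V : X.Opens, x ∈ V ∧ Factors f V := by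
  obtain ⟨⟨U, hU : IsAffineOpen U⟩, ⟨V, hV : IsAffineOpen V⟩, hxV, e, he⟩ :=
    EssFT.LocallyEssFiniteType.exists_appLE_essFiniteType (f := f) x
  let := (f.appLE U V e).hom.toAlgebra
  have : Algebra.EssFiniteType Γ(S, U) Γ(X, V) := he
  let B₀ := CommRingCat.of (Algebra.EssFiniteType.subalgebra Γ(S, U) Γ(X, V))
  let φ₀ : Γ(S, U) ⟶ B₀ := CommRingCat.ofHom (algebraMap _ _)
  let ψ : B₀ ⟶ Γ(X, V) := CommRingCat.ofHom (algebraMap _ _)
  have hψ : IsLocHom ψ.hom := ⟨Algebra.EssFiniteType.submonoid Γ(S, U) Γ(X, V),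
    inferInstanceAs (IsLocalization (Algebra.EssFiniteType.submonoid Γ(S, U) Γ(X, V)) Γ(X, V))⟩
  have hfac : φ₀ ≫ ψ = f.appLE U V e :=
    CommRingCat.hom_ext (IsScalarTower.algebraMap_eq Γ(S, U) B₀ Γ(X, V)).symm
  have : LocallyOfFiniteType (Spec.map φ₀) :=
    (HasRingHomProperty.Spec_iff (P := @LocallyOfFiniteType)).mpr
      (RingHom.finiteType_algebraMap.mpr inferInstance)
  let p := Spec.map φ₀ ≫ hU.fromSpec
  have hlft : LocallyOfFiniteType p := inferInstanceAs (LocallyOfFiniteType (Spec.map φ₀ ≫ hU.fromSpec))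
  have hqc : QuasiCompact p := inferInstance
  have hN : IsNoetherian (Spec B₀) := isNoetherian_of_lft p
  refine ⟨V, hxV, Spec B₀, hV.isoSpec.hom ≫ Spec.map ψ, p, hN,
    ((hasNhds_openImmersion hV.isoSpec.hom).comp (hasNhds_Spec hψ)).isLocImmersion,
    inferInstance, hlft, hqc, ?_⟩
  show (hV.isoSpec.hom ≫ Spec.map ψ) ≫ Spec.map φ₀ ≫ hU.fromSpec = _
  rw [Category.assoc, ← Spec.map_comp_assoc, hfac, IsAffineOpen.SpecMap_appLE_fromSpec f hU hV e,
    ← Category.assoc, hV.isoSpec_hom, hV.toSpecΓ_fromSpec]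

theorem factors_sup [IsNoetherian X] [IsNoetherian S] [IsSeparated f] {U V : X.Opens}
    (hU : Factors f U) (hV : Factors f V) : Factors f (U ⊔ V) := by
  obtain ⟨Y₁, k₁, p₁, hY₁, hk₁, hs₁, hl₁, -, e₁⟩ := hU
  obtain ⟨Y₂, k₂, p₂, hY₂, hk₂, hs₂, hl₂, -, e₂⟩ := hV
  let T : X.Opens := U ⊔ V
  have : IsNoetherian (T : Scheme.{u}) := isNoetherian_opens T
  have : IsNoetherian (U : Scheme.{u}) := isNoetherian_opens U
  have : IsNoetherian (V : Scheme.{u}) := isNoetherian_opens V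
  have hcov : T.ι ⁻¹ᵁ U ⊔ T.ι ⁻¹ᵁ V = ⊤ := top_le_iff.mp fun x _ =>
    Opens.mem_sup.mpr ((Opens.mem_sup.mp x.2).imp id id)
  obtain ⟨Y, k, p, hY, hk, hs, hl, hq, e⟩ := exists_glued_factor (T.ι ≫ f) (T.ι ⁻¹ᵁ U) (T.ι ⁻¹ᵁ V)
    hcov Y₁ Y₂ ((T.ι ∣_ U) ≫ k₁) ((T.ι ∣_ V) ≫ k₂) p₁ p₂
    ((hasNhds_openImmersion _).comp (hasNhds hk₁)).isLocImmersion
    ((hasNhds_openImmersion _).comp (hasNhds hk₂)).isLocImmersion
    (by rw [Category.assoc, e₁, morphismRestrict_ι_assoc])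
    (by rw [Category.assoc, e₂, morphismRestrict_ι_assoc])
  exact ⟨Y, k, p, hY, hk, hs, hl, hq, e⟩

theorem exists_factor [IsNoetherian X] [IsNoetherian S] [IsSeparated f]
    [EssFT.LocallyEssFiniteType f] :
    ∃ (Y : Scheme.{u}) (k : X ⟶ Y) (p : Y ⟶ S), IsNoetherian Y ∧ IsLocImmersion k ∧
      IsSeparated p ∧ LocallyOfFiniteType p ∧ QuasiCompact p ∧ k ≫ p = f := by
  classical
  choose V hxV hV using exists_affine_factors f
  obtain ⟨t, ht⟩ := isCompact_univ.elim_finite_subcover (fun x : X => (V x : Set X)) (fun x => (V x).2)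
    (fun x _ => Set.mem_iUnion.mpr ⟨x, hxV x⟩)
  have key : ∀ s : Finset X, Factors f (s.sup V) := fun s => by
    induction s using Finset.induction with
    | empty => exact factors_bot f
    | insert a s _ ih => rw [Finset.sup_insert]; exact factors_sup f (hV a) ih
  have htop : t.sup V = ⊤ := top_le_iff.mp fun x hx => by
    obtain ⟨y, hy, hxy⟩ := Set.mem_iUnion₂.mp (ht (Set.mem_univ x))
    exact (Finset.le_sup hy : V y ≤ t.sup V) hxy
  obtain ⟨Y, k, p, hY, hk, hs, hl, hq, e⟩ := htop ▸ key t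
  refine ⟨Y, X.topIso.inv ≫ k, p, hY, ?_, hs, hl, hq, by simp [e]⟩
  have : IsNoetherian (⊤ : X.Opens).toScheme := isNoetherian_opens ⊤
  exact ((hasNhds_openImmersion _).comp (hasNhds hk)).isLocImmersion

end Groth.Agent.LocHom
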