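import Groth.Agent.LocHom.Common
import Groth.Agent.LimLib.Glue

/-! Lemmas for gluing two factorisations of a morphism through localizing immersions. -/

universe u

open CategoryTheory AlgebraicGeometry Topology TopologicalSpace Limits IsLocalRing

namespace Groth.Agent.LocHom

open _root_.LocImm

/-- A field valued point lying in the range of a preimmersion factors through it. -/
theorem exists_factor_field {W P : Scheme.{u}} (j : W ⟶ P) [IsPreimmersion j] {K : Type u} [Field K]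
    (E : Spec (.of K) ⟶ P) (h : E (closedPoint K) ∈ Set.range j) :
    ∃ e : Spec (.of K) ⟶ W, e ≫ j = E := by
  obtain ⟨⟨y, φ⟩, rfl⟩ := (Scheme.SpecToEquivOfField K P).symm.surjective E
  have hy : y ∈ Set.range j := by
    obtain ⟨w, hw⟩ := h
    exact ⟨w, hw.trans (Scheme.fromSpecResidueField_apply y _)⟩
  obtain ⟨w, rfl⟩ := hy
  have : IsIso (j.residueFieldMap w) := by
    rw [ConcreteCategory.isIso_iff_bijective]
    refine ⟨(j.residueFieldMap w).hom.injective, fun r => ?_⟩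
    obtain ⟨s, rfl⟩ := Scheme.residue_surjective W w r
    obtain ⟨t, rfl⟩ := j.stalkMap_surjective w s
    exact ⟨P.residue (j w) t, congrArg (fun k : _ ⟶ W.residueField w => k.hom t)
      (Scheme.residue_residueFieldMap j w)⟩
  refine ⟨Spec.map (inv (j.residueFieldMap w) ≫ φ) ≫ W.fromSpecResidueField w, ?_⟩
  show _ = Spec.map φ ≫ P.fromSpecResidueField (j w)
  rw [Category.assoc, ← Scheme.Hom.SpecMap_residueFieldMap_fromSpecResidueField, ← Spec.map_comp_assoc,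
    IsIso.hom_inv_id_assoc]

theorem exists_open_generic {X W : Scheme.{u}} [IsNoetherian W] (k : X ⟶ W)
    (hgen : StableUnderGeneralization (Set.range k)) :
    ∃ W' : W.Opens, Set.range k ⊆ (W' : Set W) ∧ ∀ w ∈ W', ∃ η : X, k η ⤳ w := by
  let bad : Set W := {η | η ∈ genericPoints W ∧ η ∉ Set.range k}
  have hbad : bad.Finite := ((genericPoints.finite
    (NoetherianSpace.finite_irreducibleComponents (α := W)))).subset fun η h => h.1
  refine ⟨⟨(⋃ η ∈ bad, closure {η})ᶜ,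
    (hbad.isClosed_biUnion fun η _ => isClosed_closure).isOpen_compl⟩, ?_, ?_⟩
  · rintro _ ⟨x, rfl⟩
    simp only [Opens.coe_mk, Set.mem_compl_iff, Set.mem_iUnion₂, not_exists]
    intro η hη hxη
    exact hη.2 (hgen (specializes_iff_mem_closure.mpr hxη) ⟨x, rfl⟩)
  · intro w hw
    obtain ⟨C, hC, hCp⟩ := exists_mem_irreducibleComponents_subset_of_isIrreducible
      {w} isIrreducible_singleton
    have hgp := hC.1.isGenericPoint_genericPoint (isClosed_of_mem_irreducibleComponents C hC)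
    by_contra hcon
    refine hw (Set.mem_iUnion₂.mpr ⟨hC.1.genericPoint, ⟨?_, ?_⟩,
      hgp.def.symm ▸ hCp rfl⟩)
    · show closure {hC.1.genericPoint} ∈ irreducibleComponents W
      rw [hgp.def]; exact hC
    · rintro ⟨η, hη⟩
      exact hcon ⟨η, hη ▸ hgp.specializes (hCp rfl)⟩

/-- The closure of the image of a Noetherian space consists of specialisations. -/
theorem exists_specializes_of_mem_closure_range {α β : Type*} [TopologicalSpace α]
    [TopologicalSpace β] [NoetherianSpace α] [QuasiSober α] (g : α → β) (hg : Continuous g) {b : β}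
    (hb : b ∈ closure (Set.range g)) : ∃ η, g η ⤳ b := by
  obtain ⟨S, hSf, hScl, hSirr, hS⟩ :=
    NoetherianSpace.exists_finite_set_isClosed_irreducible (isClosed_univ (X := α))
  rw [← Set.image_univ, hS, Set.sUnion_eq_biUnion, Set.image_iUnion₂, hSf.closure_biUnion] at hb
  obtain ⟨t, ht, hbt⟩ := Set.mem_iUnion₂.mp hb
  refine ⟨(hSirr t ht).genericPoint, specializes_iff_mem_closure.mpr ?_⟩
  have := (hSirr t ht).isGenericPoint_genericPoint (hScl t ht) |>.image hg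
  rwa [← this.def] at hbt

/-- Noetherian compactness: a closed set missing `a⁻¹ K₁ ∩ c⁻¹ K₂`, for generization stable `K_i`,
misses the preimages of suitable open neighbourhoods. -/
theorem exists_opens_avoid {P Y₁ Y₂ : Type*} [TopologicalSpace P] [NoetherianSpace P] [QuasiSober P]
    [TopologicalSpace Y₁] [TopologicalSpace Y₂] (a : P → Y₁) (c : P → Y₂) (ha : Continuous a)
    (hc : Continuous c) {K₁ : Set Y₁} {K₂ : Set Y₂} (h₁ : StableUnderGeneralization K₁)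
    (h₂ : StableUnderGeneralization K₂) {B : Set P} (hB : IsClosed B)
    (hBK : ∀ b ∈ B, a b ∈ K₁ → c b ∈ K₂ → False) :
    ∃ (O₁ : Opens Y₁) (O₂ : Opens Y₂), K₁ ⊆ (O₁ : Set Y₁) ∧ K₂ ⊆ (O₂ : Set Y₂) ∧
      ∀ b ∈ B, a b ∈ O₁ → c b ∈ O₂ → False := by
  by_contra hcon
  push Not at hcon
  let Big : Closeds P → Prop := fun C => ∀ (O₁ : Opens Y₁) (O₂ : Opens Y₂), K₁ ⊆ (O₁ : Set Y₁) →
    K₂ ⊆ (O₂ : Set Y₂) → ∃ b ∈ C, a b ∈ O₁ ∧ c b ∈ O₂
  obtain ⟨C, ⟨hC, hCB⟩, hmin⟩ := (wellFounded_lt (α := Closeds P)).has_min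
    {C | Big C ∧ (C : Set P) ⊆ B} ⟨⟨B, hB⟩, fun O₁ O₂ e₁ e₂ => by
      obtain ⟨b, hb, hb1, hb2, -⟩ := hcon O₁ O₂ e₁ e₂
      exact ⟨b, hb, hb1, hb2⟩, subset_rfl⟩
  have hsmall : ∀ C' : Closeds P, C' < C → ∃ (O₁ : Opens Y₁) (O₂ : Opens Y₂),
      K₁ ⊆ (O₁ : Set Y₁) ∧ K₂ ⊆ (O₂ : Set Y₂) ∧ ∀ b ∈ C', a b ∈ O₁ → c b ∈ O₂ → False := by
    intro C' hlt
    by_contra h'
    push Not at h'
    exact hmin C' ⟨fun O₁ O₂ e₁ e₂ => by
      obtain ⟨b, hb, hb1, hb2, -⟩ := h' O₁ O₂ e₁ e₂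
      exact ⟨b, hb, hb1, hb2⟩, fun b hb => hCB (hlt.le hb)⟩ hlt
  obtain ⟨b₀, hb₀, -, -⟩ := hC ⊤ ⊤ (Set.subset_univ _) (Set.subset_univ _)
  have hirr : IsIrreducible (C : Set P) := by
    refine ⟨⟨b₀, hb₀⟩, isPreirreducible_iff_isClosed_union_isClosed.mpr fun Z₁ Z₂ hZ₁ hZ₂ hsub => ?_⟩
    by_contra! hne
    have hlt : ∀ (Z : Set P) (hZc : IsClosed Z), ¬ (C : Set P) ⊆ Z →
        C ⊓ ⟨Z, hZc⟩ < C := fun Z hZc hZ =>
      lt_of_le_of_ne inf_le_left fun e => hZ fun z hz => (e.symm ▸ hz : z ∈ C ⊓ ⟨Z, hZc⟩).2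
    obtain ⟨O₁, O₂, e₁, e₂, hO⟩ := hsmall _ (hlt Z₁ hZ₁ hne.1)
    obtain ⟨O₁', O₂', e₁', e₂', hO'⟩ := hsmall _ (hlt Z₂ hZ₂ hne.2)
    obtain ⟨b, hb, hb1, hb2⟩ := hC (O₁ ⊓ O₁') (O₂ ⊓ O₂') (Set.subset_inter e₁ e₁')
      (Set.subset_inter e₂ e₂')
    rcases hsub hb with hz | hz
    · exact hO b ⟨hb, hz⟩ hb1.1 hb2.1
    · exact hO' b ⟨hb, hz⟩ hb1.2 hb2.2
  have hξ := hirr.isGenericPoint_genericPoint C.isClosed
  have hmem : ∀ (O₁ : Opens Y₁) (O₂ : Opens Y₂), K₁ ⊆ (O₁ : Set Y₁) → K₂ ⊆ (O₂ : Set Y₂) →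
      a hirr.genericPoint ∈ O₁ ∧ c hirr.genericPoint ∈ O₂ := by
    intro O₁ O₂ e₁ e₂
    obtain ⟨b, hb, hb1, hb2⟩ := hC O₁ O₂ e₁ e₂
    exact ⟨((hξ.specializes hb).map ha).mem_open O₁.2 hb1, ((hξ.specializes hb).map hc).mem_open O₂.2 hb2⟩
  refine hBK _ (hCB hξ.mem) ?_ ?_
  · by_contra hy
    refine (hmem ⟨(closure {a hirr.genericPoint})ᶜ, isClosed_closure.isOpen_compl⟩ ⊤
      (fun z hz hzc => hy (h₁ (specializes_iff_mem_closure.mpr hzc) hz)) (Set.subset_univ _)).1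
      (subset_closure rfl)
  · by_contra hy
    refine (hmem ⊤ ⟨(closure {c hirr.genericPoint})ᶜ, isClosed_closure.isOpen_compl⟩
      (Set.subset_univ _)
      (fun z hz hzc => hy (h₂ (specializes_iff_mem_closure.mpr hzc) hz))).2
      (subset_closure rfl)

section Key

variable {X S Y₁ Y₂ U₁₂ V₁ V₂ : Scheme.{u}} (f : X ⟶ S) [IsSeparated f]
  (j₁ : V₁ ⟶ X) (j₂ : V₂ ⟶ X) (k₁ : V₁ ⟶ Y₁) (k₂ : V₂ ⟶ Y₂) (p₁ : Y₁ ⟶ S) (p₂ : Y₂ ⟶ S)
  (i₁ : U₁₂ ⟶ V₁) (i₂ : U₁₂ ⟶ V₂)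

/-- If a point of the fibre product specialises a point of the diagonal image and both projections
lie in the images, it lies in the diagonal image. -/
theorem key_lemma [IsPreimmersion k₁] [IsPreimmersion k₂] (hk₁ : IsLocalizing k₁)
    (hk₂ : IsLocalizing k₂) (H : IsPullback i₁ i₂ j₁ j₂)
    (e₁ : k₁ ≫ p₁ = j₁ ≫ f) (e₂ : k₂ ≫ p₂ = j₂ ≫ f) (c : U₁₂ ⟶ pullback p₁ p₂) [IsPreimmersion c]
    (hc₁ : c ≫ pullback.fst p₁ p₂ = i₁ ≫ k₁) (hc₂ : c ≫ pullback.snd p₁ p₂ = i₂ ≫ k₂)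
    {η : U₁₂} {b : (pullback p₁ p₂ : Scheme.{u})} (hb : c η ⤳ b) {u₁ : V₁} {u₂ : V₂}
    (h₁ : pullback.fst p₁ p₂ b = k₁ u₁) (h₂ : pullback.snd p₁ p₂ b = k₂ u₂) :
    ∃ u, c u = b ∧ i₁ u = u₁ ∧ i₂ u = u₂ := by
  set O := (pullback p₁ p₂).presheaf.stalk b
  obtain ⟨P₀, hP₀⟩ : c η ∈ Set.range ((pullback p₁ p₂).fromSpecStalk b) := by
    rw [Scheme.range_fromSpecStalk]; exact hb
  let q : Ideal O := (P₀ : PrimeSpectrum O).asIdeal
  have : q.IsPrime := (P₀ : PrimeSpectrum O).isPrime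
  let R := O ⧸ q
  let π : O ⟶ .of R := CommRingCat.ofHom (Ideal.Quotient.mk q)
  let κ : CommRingCat.of R ⟶ .of (FractionRing R) := CommRingCat.ofHom (algebraMap R (FractionRing R))
  have : IsDominant (Spec.map κ) := ⟨(PrimeSpectrum.denseRange_comap_iff_ker_le_nilRadical _).mpr
    (by rw [CommRingCat.hom_ofHom, (RingHom.injective_iff_ker_eq_bot _).mp
      (IsFractionRing.injective R (FractionRing R))]; exact bot_le)⟩
  let φ : Spec (.of R) ⟶ (pullback p₁ p₂) := Spec.map π ≫ (pullback p₁ p₂).fromSpecStalk b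
  obtain ⟨m, hm⟩ : ∃ m : Spec (CommRingCat.of R), Spec.map π m = closedPoint O := by
    have : (closedPoint O : PrimeSpectrum O) ∈ Set.range (PrimeSpectrum.comap (Ideal.Quotient.mk q)) := by
      rw [range_comap_of_surjective _ _ Ideal.Quotient.mk_surjective, Ideal.mk_ker]
      exact le_maximalIdeal (Ideal.IsPrime.ne_top ‹q.IsPrime›)
    exact this
  have hφm : φ m = b := by
    show (pullback p₁ p₂).fromSpecStalk b (Spec.map π m) = b
    rw [hm]; exact Scheme.fromSpecStalk_closedPoint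
  have hE : (Spec.map κ ≫ φ) (closedPoint (FractionRing R)) ∈ Set.range c := by
    refine ⟨η, ?_⟩
    rw [← hP₀]
    show (pullback p₁ p₂).fromSpecStalk b P₀ = (pullback p₁ p₂).fromSpecStalk b (Spec.map π (Spec.map κ _))
    congr 1
    apply PrimeSpectrum.ext
    show q = ((closedPoint (FractionRing R)).asIdeal.comap (algebraMap R (FractionRing R))).comap
      (Ideal.Quotient.mk q)
    rw [(Ideal.eq_bot_or_top (closedPoint (FractionRing R)).asIdeal).resolve_right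
      (closedPoint (FractionRing R)).isPrime.ne_top, ← RingHom.ker_eq_comap_bot,
      (RingHom.injective_iff_ker_eq_bot _).mp (IsFractionRing.injective R (FractionRing R)),
      ← RingHom.ker_eq_comap_bot, Ideal.mk_ker]
  obtain ⟨e₀, he₀⟩ := exists_factor_field c (Spec.map κ ≫ φ) hE
  have lift : ∀ {V Y : Scheme.{u}} (k : V ⟶ Y) (_ : IsLocalizing k) (pr : (pullback p₁ p₂) ⟶ Y) (u : V),
      pr b = k u → ∃ a : Spec (.of R) ⟶ V, a ≫ k = φ ≫ pr ∧ a m = u := by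
    intro V Y k hk pr u hu
    obtain ⟨g, hg, hgu, -, -⟩ := exists_lift_stalk hk hu.symm
    refine ⟨Spec.map π ≫ Spec.map (pr.stalkMap b) ≫ g, ?_, ?_⟩
    · simp only [φ, Category.assoc, hg, Scheme.SpecMap_stalkMap_fromSpecStalk]
    · show g (Spec.map (pr.stalkMap b) (Spec.map π m)) = u
      rw [hm, Spec_closedPoint]; exact hgu
  obtain ⟨a₁, ha₁, ha₁m⟩ := lift k₁ hk₁ (pullback.fst p₁ p₂) u₁ h₁
  obtain ⟨a₂, ha₂, ha₂m⟩ := lift k₂ hk₂ (pullback.snd p₁ p₂) u₂ h₂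
  have hK₁ : Spec.map κ ≫ a₁ = e₀ ≫ i₁ := by
    rw [← cancel_mono k₁, Category.assoc, ha₁, Category.assoc e₀, ← hc₁,
      ← Category.assoc e₀, he₀, Category.assoc (Spec.map κ)]
  have hK₂ : Spec.map κ ≫ a₂ = e₀ ≫ i₂ := by
    rw [← cancel_mono k₂, Category.assoc, ha₂, Category.assoc e₀, ← hc₂,
      ← Category.assoc e₀, he₀, Category.assoc (Spec.map κ)]
  have hA : a₁ ≫ j₁ = a₂ ≫ j₂ := by
    refine ext_of_isDominant_of_isSeparated f ?_ (Spec.map κ) ?_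
    · rw [Category.assoc, Category.assoc, ← e₁, ← e₂, reassoc_of% ha₁, reassoc_of% ha₂,
        pullback.condition]
    · rw [reassoc_of% hK₁, reassoc_of% hK₂, H.w]
  refine ⟨H.lift a₁ a₂ hA m, ?_, ?_, ?_⟩
  · have : H.lift a₁ a₂ hA ≫ c = φ := by
      apply pullback.hom_ext
      · rw [Category.assoc, hc₁, IsPullback.lift_fst_assoc, ha₁]
      · rw [Category.assoc, hc₂, IsPullback.lift_snd_assoc, ha₂]
    rw [← Scheme.Hom.comp_apply, this, hφm]
  · rw [← Scheme.Hom.comp_apply, IsPullback.lift_fst, ha₁m]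
  · rw [← Scheme.Hom.comp_apply, IsPullback.lift_snd, ha₂m]

end Key

theorem preimage_diagonal_eq {S Y A B Q : Scheme.{u}} (p : Y ⟶ S) (a : A ⟶ Y) (b : B ⟶ Y)
    [IsOpenImmersion a] [IsOpenImmersion b] (pa : A ⟶ S) (pb : B ⟶ S) (wa : a ≫ p = pa) (wb : b ≫ p = pb)
    (ha : Q ⟶ A) (hb : Q ⟶ B) (w : ha ≫ a = hb ≫ b) (hab : Set.range a ∩ Set.range b ⊆ Set.range (ha ≫ a)) :
    (pullback.map pa pb p p a b (𝟙 S) (by simp [wa]) (by simp [wb])) ⁻¹' Set.range (pullback.diagonal p) =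
      Set.range (pullback.lift ha hb (by rw [← wa, ← wb, reassoc_of% w])) := by
  set m := pullback.map pa pb p p a b (𝟙 S) (by simp [wa]) (by simp [wb])
  set l := pullback.lift ha hb (by rw [← wa, ← wb, reassoc_of% w] : ha ≫ pa = hb ≫ pb)
  have hl : l ≫ m = (ha ≫ a) ≫ pullback.diagonal p := by
    apply pullback.hom_ext
    · erw [Category.assoc, pullback.lift_fst, pullback.lift_fst_assoc]
      simp
    · erw [Category.assoc, pullback.lift_snd, pullback.lift_snd_assoc]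
      simp [w]
  refine Set.Subset.antisymm (fun z hz => ?_) ?_
  · obtain ⟨y, hy⟩ := hz
    have h₁ : a (pullback.fst pa pb z) = y := by
      have : (pullback.fst pa pb ≫ a) z = (pullback.diagonal p ≫ pullback.fst p p) y := by
        rw [Scheme.Hom.comp_apply (pullback.diagonal p), hy, ← Scheme.Hom.comp_apply m, pullback.lift_fst]
      simpa using this
    have h₂ : b (pullback.snd pa pb z) = y := by
      have : (pullback.snd pa pb ≫ b) z = (pullback.diagonal p ≫ pullback.snd p p) y := by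
        rw [Scheme.Hom.comp_apply (pullback.diagonal p), hy, ← Scheme.Hom.comp_apply m, pullback.lift_snd]
      simpa using this
    obtain ⟨q, hq⟩ := hab (⟨⟨_, h₁⟩, ⟨_, h₂⟩⟩ : y ∈ Set.range a ∩ Set.range b)
    refine ⟨q, m.isOpenEmbedding.injective ?_⟩
    rw [← Scheme.Hom.comp_apply, hl, ← hy, Scheme.Hom.comp_apply, hq]
  · rintro _ ⟨q, rfl⟩
    exact ⟨(ha ≫ a) q, by rw [← Scheme.Hom.comp_apply, ← hl, Scheme.Hom.comp_apply]⟩

end Groth.Agent.LocHom
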