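import Groth.Agent.LocHom.Basic

/-! A separated localizing morphism which is injective on maximal points is injective. -/

universe u

open CategoryTheory AlgebraicGeometry Topology TopologicalSpace IsLocalRing

namespace Groth.Agent.LocHom

open _root_.LocImm

variable {X Y : Scheme.{u}} {f : X ⟶ Y}

theorem exists_lift_stalk (hf : IsLocalizing f) {x : X} {s : Y} (e : f x = s) :
    ∃ g : Spec (Y.presheaf.stalk s) ⟶ X, g ≫ f = Y.fromSpecStalk s ∧
      g (closedPoint _) = x ∧ Function.Injective g ∧ Set.range g = {η | η ⤳ x} := by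
  subst e
  have := isIso_stalkMap hf x
  refine ⟨Spec.map (inv (f.stalkMap x)) ≫ X.fromSpecStalk x, ?_, ?_, ?_, ?_⟩
  · rw [Category.assoc, ← Scheme.SpecMap_stalkMap_fromSpecStalk, ← Spec.map_comp_assoc,
      IsIso.hom_inv_id, Spec.map_id, Category.id_comp]
  · show X.fromSpecStalk x (Spec.map (inv (f.stalkMap x)) (closedPoint _)) = x
    rw [Spec_closedPoint, Scheme.fromSpecStalk_closedPoint]
  · exact (Spec.map (inv (f.stalkMap x)) ≫ X.fromSpecStalk x).isEmbedding.injective
  · rw [Scheme.Hom.comp_base, TopCat.coe_comp, Set.range_comp, Set.range_eq_univ.mpr, Set.image_univ,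
      Scheme.range_fromSpecStalk]
    exact (Spec.map (inv (f.stalkMap x))).surjective

/-- Two morphisms from a field landing at the same point with the same composite agree. -/
theorem eq_of_point_eq (hf : IsLocalizing f) {K : Type u} [Field K] (a c : Spec (.of K) ⟶ X)
    {η : X} (ha : ∀ t, a t = η) (hc : ∀ t, c t = η) (h : a ≫ f = c ≫ f) : a = c := by
  obtain ⟨⟨U, hU : IsAffineOpen U⟩, ⟨V, hV : IsAffineOpen V⟩, hη, e, hl⟩ := hf η
  obtain ⟨hp, -⟩ := fromSpec_comp_isPreimmersion hU hV e hl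
  have ra : Set.range a ⊆ Set.range hV.fromSpec := by
    rintro _ ⟨t, rfl⟩; rw [hV.range_fromSpec, ha]; exact hη
  have rc : Set.range c ⊆ Set.range hV.fromSpec := by
    rintro _ ⟨t, rfl⟩; rw [hV.range_fromSpec, hc]; exact hη
  rw [← IsOpenImmersion.lift_fac hV.fromSpec a ra, ← IsOpenImmersion.lift_fac hV.fromSpec c rc]
  congr 1
  rw [← cancel_mono (hV.fromSpec ≫ f), IsOpenImmersion.lift_fac_assoc,
    IsOpenImmersion.lift_fac_assoc, h]

theorem injective_of_isSeparated (hf : IsLocalizing f) [IsSeparated f]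
    (hmax : Set.InjOn f {x : X | ∀ x' : X, x' ⤳ x → x' = x}) : Function.Injective f := by
  intro x y e
  set O := Y.presheaf.stalk (f x) with hO
  obtain ⟨g₁, hg₁, hx, hinj₁, hr₁⟩ := exists_lift_stalk hf (rfl : f x = f x)
  obtain ⟨g₂, hg₂, hy, hinj₂, hr₂⟩ := exists_lift_stalk hf e.symm
  obtain ⟨p, hp, -⟩ := Ideal.exists_minimalPrimes_le (bot_le : (⊥ : Ideal O) ≤ maximalIdeal O)
  have : p.IsPrime := hp.1.1
  let P₀ : PrimeSpectrum O := ⟨p, this⟩
  have hmin : ∀ g : Spec O ⟶ X, Function.Injective g → ∀ z, Set.range g = {η | η ⤳ z} →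
      IsPreimmersion g → g P₀ ∈ {x : X | ∀ x' : X, x' ⤳ x → x' = x} := by
    intro g hg z hr hpre x' hx'
    have hz : g P₀ ⤳ z := (Set.ext_iff.mp hr (g P₀)).mp ⟨_, rfl⟩
    obtain ⟨q, rfl⟩ := (Set.ext_iff.mp hr x').mpr (hx'.trans hz)
    have hq : q ⤳ (P₀ : Spec O) := g.isEmbedding.specializes_iff.mp hx'
    have hle : q.asIdeal ≤ p := (PrimeSpectrum.le_iff_specializes (q : PrimeSpectrum O) P₀).mpr hq
    exact congrArg g (PrimeSpectrum.ext (le_antisymm hle (hp.2 ⟨q.isPrime, bot_le⟩ hle)))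
  have hpre : ∀ g : Spec O ⟶ X, g ≫ f = Y.fromSpecStalk (f x) → IsPreimmersion g := fun g hg => by
    have hs := surjectiveOnStalks hf
    have : IsPreimmersion (g ≫ f) := hg ▸ inferInstance
    exact
      { stalkMap_surjective := fun t => by
          have h := (g ≫ f).stalkMap_surjective t
          rw [Scheme.Hom.stalkMap_comp] at h
          exact Function.Surjective.of_comp h
        isEmbedding := Topology.IsEmbedding.of_comp g.continuous f.continuous (g ≫ f).isEmbedding }
  have he : g₁ P₀ = g₂ P₀ := by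
    refine hmax (hmin g₁ hinj₁ x hr₁ (hpre g₁ hg₁)) (hmin g₂ hinj₂ y hr₂ (hpre g₂ hg₂)) ?_
    show (g₁ ≫ f) P₀ = (g₂ ≫ f) P₀
    rw [hg₁, hg₂]
  let R := O ⧸ p
  let q : O ⟶ .of R := CommRingCat.ofHom (Ideal.Quotient.mk p)
  let k : CommRingCat.of R ⟶ .of (FractionRing R) := CommRingCat.ofHom (algebraMap R (FractionRing R))
  have : IsDominant (Spec.map k) := ⟨(PrimeSpectrum.denseRange_comap_iff_ker_le_nilRadical _).mpr
    (by rw [CommRingCat.hom_ofHom, (RingHom.injective_iff_ker_eq_bot _).mp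
      (IsFractionRing.injective R (FractionRing R))]; exact bot_le)⟩
  have hpt : ∀ t, Spec.map q (Spec.map k t) = P₀ := by
    intro t
    apply PrimeSpectrum.ext
    show ((t : PrimeSpectrum (FractionRing R)).asIdeal.comap (algebraMap R (FractionRing R))).comap
      (Ideal.Quotient.mk p) = p
    rw [(Ideal.eq_bot_or_top _).resolve_right t.isPrime.ne_top,
      ← RingHom.ker_eq_comap_bot, (RingHom.injective_iff_ker_eq_bot _).mp
      (IsFractionRing.injective R (FractionRing R)), ← RingHom.ker_eq_comap_bot, Ideal.mk_ker]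
  have hK : Spec.map k ≫ Spec.map q ≫ g₁ = Spec.map k ≫ Spec.map q ≫ g₂ := by
    refine eq_of_point_eq hf (K := FractionRing R) _ _ (η := g₁ P₀) (fun t => ?_) (fun t => ?_) ?_
    · simp [Scheme.Hom.comp_apply, hpt]
    · simp [Scheme.Hom.comp_apply, hpt, he]
    · simp [hg₁, hg₂]
  have hR : Spec.map q ≫ g₁ = Spec.map q ≫ g₂ :=
    ext_of_isDominant_of_isSeparated f (by simp [hg₁, hg₂]) (Spec.map k) hK
  obtain ⟨m, hm⟩ : ∃ m : Spec (CommRingCat.of R), Spec.map q m = closedPoint O := by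
    have : (closedPoint O : PrimeSpectrum O) ∈ Set.range (PrimeSpectrum.comap (Ideal.Quotient.mk p)) := by
      rw [range_comap_of_surjective _ _ Ideal.Quotient.mk_surjective, Ideal.mk_ker]
      exact le_maximalIdeal hp.1.1.ne_top
    exact this
  rw [← hx, ← hy, ← hm, ← Scheme.Hom.comp_apply, ← Scheme.Hom.comp_apply, hR]

end Groth.Agent.LocHom
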