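import Groth.Agent.LocHom.Comp
import Groth.Agent.LocHom.Separated
import Groth.Agent.LocImm.Basic
import Groth.Prelude.Def_EssFT

/-! Spreading out localizing immersions. -/

universe u

open CategoryTheory AlgebraicGeometry Topology TopologicalSpace Limits

namespace Groth.Agent.LocHom

open _root_.LocImm

variable {X Y Z : Scheme.{u}}

theorem isIso_left {C : Type*} [Category C] {A B D : C} (a : A ⟶ B) (b : B ⟶ D) (hb : IsIso b)
    (hab : IsIso (a ≫ b)) : IsIso a :=
  IsIso.of_isIso_comp_right a b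

/-- An essentially finite type morphism is localizing near a point where it is an isomorphism on
stalks. -/
theorem exists_isLocalizing_nhd (g : Y ⟶ Z) [IsLocallyNoetherian Z]
    [EssFT.LocallyEssFiniteType g] (z : Y) (hz : IsIso (g.stalkMap z)) :
    ∃ T : Y.Opens, z ∈ T ∧ IsLocalizing (T.ι ≫ g) := by
  obtain ⟨⟨U, hU : IsAffineOpen U⟩, ⟨V, hV : IsAffineOpen V⟩, hzV, e, he⟩ :=
    EssFT.LocallyEssFiniteType.exists_appLE_essFiniteType (f := g) z
  let := (g.appLE U V e).hom.toAlgebra
  have : Algebra.EssFiniteType Γ(Z, U) Γ(Y, V) := he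
  have : IsNoetherianRing Γ(Z, U) := IsLocallyNoetherian.component_noetherian ⟨U, hU⟩
  let B₀ := CommRingCat.of (Algebra.EssFiniteType.subalgebra Γ(Z, U) Γ(Y, V))
  let φ₀ : Γ(Z, U) ⟶ B₀ := CommRingCat.ofHom (algebraMap _ _)
  let ψ : B₀ ⟶ Γ(Y, V) := CommRingCat.ofHom (algebraMap _ _)
  have hψ : IsLocHom ψ.hom := by
    refine ⟨Algebra.EssFiniteType.submonoid Γ(Z, U) Γ(Y, V), ?_⟩
    exact inferInstanceAs (IsLocalization (Algebra.EssFiniteType.submonoid Γ(Z, U) Γ(Y, V)) Γ(Y, V))
  have hfac : φ₀ ≫ ψ = g.appLE U V e := by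
    apply CommRingCat.hom_ext
    exact (IsScalarTower.algebraMap_eq Γ(Z, U) B₀ Γ(Y, V)).symm
  let G := Spec.map φ₀ ≫ hU.fromSpec
  have : LocallyOfFiniteType (Spec.map φ₀) :=
    (HasRingHomProperty.Spec_iff (P := @LocallyOfFiniteType)).mpr
      (RingHom.finiteType_algebraMap.mpr inferInstance)
  have hG : Spec.map ψ ≫ G = hV.fromSpec ≫ g := by
    rw [← IsAffineOpen.SpecMap_appLE_fromSpec g hU hV e, ← hfac, Spec.map_comp, Category.assoc]
  obtain ⟨t, ht⟩ : ∃ t, hV.fromSpec t = z := by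
    rw [← Set.mem_range, hV.range_fromSpec]; exact hzV
  have hψn := hasNhds_Spec hψ
  have : IsIso ((Spec.map ψ).stalkMap t) := isIso_stalkMap hψn.isLocImmersion.1 t
  have hq : IsIso (G.stalkMap (Spec.map ψ t)) := by
    have h1 : IsIso ((hV.fromSpec ≫ g).stalkMap t) := by
      rw [Scheme.Hom.stalkMap_comp]
      subst ht
      exact @IsIso.comp_isIso _ _ _ _ _ _ _ hz inferInstance
    rw [← hG, Scheme.Hom.stalkMap_comp] at h1
    exact isIso_left _ _ ‹IsIso ((Spec.map ψ).stalkMap t)› h1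
  have : LocallyOfFiniteType G := inferInstanceAs (LocallyOfFiniteType (Spec.map φ₀ ≫ hU.fromSpec))
  have : Z.IsGermInjective := inferInstance
  have : Z.IsGermInjectiveAt (G (Spec.map ψ t)) := this _
  obtain ⟨U', htU', hU'⟩ := Groth.Agent.LocImm.isLocalIsoAt_of_isIso G (x := Spec.map ψ t)
  have hn : HasNhds ((Spec.map ψ ⁻¹ᵁ U').ι ≫ hV.fromSpec ≫ g) := by
    rw [← hG, ← Category.assoc, ← morphismRestrict_ι, Category.assoc]
    exact (hψn.morphismRestrict U').comp (hasNhds_openImmersion (U'.ι ≫ G))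
  let j := (Spec.map ψ ⁻¹ᵁ U').ι ≫ hV.fromSpec
  refine ⟨j.opensRange, ⟨⟨t, htU'⟩, ?_⟩, ?_⟩
  · show hV.fromSpec t = z
    exact ht
  · have : j.opensRange.ι ≫ g = j.isoOpensRange.inv ≫ (j ≫ g) := by
      rw [← Category.assoc, Scheme.Hom.isoOpensRange_inv_comp]
    rw [this]
    exact ((hasNhds_openImmersion j.isoOpensRange.inv).comp
      (by simpa only [j, Category.assoc] using hn)).isLocImmersion.1

/-- If a separated essentially finite type morphism carries a localizing immersion to a localizing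
immersion, then it is a localizing immersion on a neighbourhood of the image. -/
theorem exists_nhd_isLocImmersion [IsNoetherian X] [IsNoetherian Y] [IsNoetherian Z]
    (k : X ⟶ Y) (g : Y ⟶ Z) (hk : IsLocImmersion k) (hkg : IsLocImmersion (k ≫ g))
    [IsSeparated g] [EssFT.LocallyEssFiniteType g] :
    ∃ U : Y.Opens, Set.range k ⊆ (U : Set Y) ∧ IsLocImmersion (U.ι ≫ g) := by
  have hiso : ∀ x, IsIso (g.stalkMap (k x)) := fun x => by
    have h1 := isIso_stalkMap hkg.1 x
    have := isIso_stalkMap hk.1 x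
    rw [Scheme.Hom.stalkMap_comp] at h1
    exact isIso_left _ _ (isIso_stalkMap hk.1 x) h1
  choose T hT hTl using fun x => exists_isLocalizing_nhd g (k x) (hiso x)
  set U₀ : Y.Opens := ⨆ x, T x
  let bad : Set Y := {η | η ∈ genericPoints Y ∧ η ∉ Set.range k}
  have hbad : bad.Finite := ((genericPoints.finite
    (NoetherianSpace.finite_irreducibleComponents (α := Y)))).subset fun η h => h.1
  let U : Y.Opens := U₀ ⊓ ⟨(⋃ η ∈ bad, closure {η})ᶜ,
    (hbad.isClosed_biUnion fun η _ => isClosed_closure).isOpen_compl⟩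
  have hgen := stableUnderGeneralization_range hk.1
  refine ⟨U, ?_, ?_⟩
  · rintro _ ⟨x, rfl⟩
    refine ⟨Opens.mem_iSup.mpr ⟨x, hT x⟩, ?_⟩
    simp only [Opens.coe_mk, Set.mem_compl_iff, Set.mem_iUnion₂, not_exists]
    intro η hη hxη
    exact hη.2 (hgen (specializes_iff_mem_closure.mpr hxη) ⟨x, rfl⟩)
  · have hl : IsLocalizing (U.ι ≫ g) := by
      refine isLocalizing_of_local fun p => ?_
      obtain ⟨x, hx⟩ := Opens.mem_iSup.mp p.2.1
      refine ⟨U.ι ⁻¹ᵁ T x, hx, ?_⟩
      have hn := isLocalizing_comp_openImmersion (U.ι ∣_ T x) _ (hTl x)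
      rwa [← Category.assoc, morphismRestrict_ι, Category.assoc] at hn
    refine ⟨hl, injective_of_isSeparated hl fun a ha c hc hac => ?_⟩
    have key : ∀ p : U.toScheme, (∀ p' : U.toScheme, p' ⤳ p → p' = p) → U.ι p ∈ Set.range k := by
      intro p hp
      by_contra hn
      refine p.2.2 ?_
      simp only [Set.mem_iUnion₂]
      refine ⟨U.ι p, ⟨?_, hn⟩, subset_closure rfl⟩
      obtain ⟨C, hC, hCp⟩ := exists_mem_irreducibleComponents_subset_of_isIrreducible
        {U.ι p} isIrreducible_singleton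
      have hgp := hC.1.isGenericPoint_genericPoint (isClosed_of_mem_irreducibleComponents C hC)
      have hs : hC.1.genericPoint ⤳ U.ι p := hgp.specializes (hCp rfl)
      have hη : hC.1.genericPoint ∈ U := hs.mem_open U.2 p.2
      have := hp ⟨_, hη⟩ (U.ι.isEmbedding.specializes_iff.mp hs)
      show closure {U.ι p} ∈ irreducibleComponents Y
      rw [show U.ι p = hC.1.genericPoint from (congrArg U.ι this).symm, hgp.def]
      exact hC
    obtain ⟨x, hx⟩ := key a ha
    obtain ⟨y, hy⟩ := key c hc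
    refine Subtype.ext ((hx.symm.trans ?_).trans hy)
    refine congrArg k (hkg.2 ?_)
    show g (k x) = g (k y)
    rw [hx, hy]
    exact hac

end Groth.Agent.LocHom
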